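import Cfsg.Agent.Lib.BenderSuzuki.TwoGroup.Sums
import Cfsg.Agent.Lib.BenderSuzuki.Sections.Main

/-!
# §6: `Q` is a 2-group

Testing the indicator of the singular elements of `G_a` against the principal 2-block gives
`P - R ≤ √(P - P²) |I| / (q - 1)`, where `P` is their proportion and `R` is small; but `P` is at
least `1 / (2 (q - 1))`, and at least `1 / n` when `|I| > 1`, `q = 2 ^ n`.
-/

set_option autoImplicit false
set_option linter.unusedSectionVars false
set_option linter.style.haveILetI false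

namespace Cfsg.Agent.Lib.BenderSuzuki.TwoGroup

open MulAction Cfsg.Agent.Lib.RankOne.Basic Cfsg.Agent.Lib.RankOne.Involution
open Cfsg.Agent.Lib.Characters.Basic
open scoped ComplexConjugate

universe w z

theorem cube_lt_sq : ∀ n : ℕ, 3 ≤ n → 4 * (n : ℝ) ^ 3 < 3 * ((2 : ℝ) ^ n - 1) ^ 2 := by
  intro n hn
  induction n, hn using Nat.le_induction with
  | base => norm_num
  | succ n hn ih =>
    have hn' : (3 : ℝ) ≤ n := by exact_mod_cast hn
    have h8 : (8 : ℝ) ≤ 2 ^ n := by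
      calc (8 : ℝ) = 2 ^ 3 := by norm_num
        _ ≤ _ := pow_le_pow_right₀ (by norm_num) hn
    rw [pow_succ (2 : ℝ)]
    push_cast
    have h1 : 27 * ((n : ℝ) + 1) ^ 3 ≤ 64 * (n : ℝ) ^ 3 := by
      have := pow_le_pow_left₀ (by positivity) (show 3 * ((n : ℝ) + 1) ≤ 4 * n by linarith) 3
      linarith
    have h2 : 4 * ((2 : ℝ) ^ n - 1) ^ 2 ≤ (2 ^ n * 2 - 1) ^ 2 := by nlinarith
    nlinarith

/-- The arithmetic: the inequality forced by the characters is impossible. -/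
theorem no_solution {q P R b : ℝ} (hq : 4 ≤ q) (hP : 0 < P) (hR : R * (q * (2 * q - 1)) ≤ 1)
    (hb : 0 ≤ b) (hle : P - R ≤ Real.sqrt (P - P ^ 2) * (b / (q - 1)))
    (hcase : (b ≤ 1 ∧ 1 ≤ 2 * (q - 1) * P) ∨
      ∃ n : ℝ, b ≤ n ∧ 1 ≤ n * P ∧ 4 * n ^ 3 < 3 * (q - 1) ^ 2 ∧ 8 ≤ q ∧ n ≤ 2 * (q - 1)) :
    False := by
  have hR' : R * (q * (2 * q - 1)) ≤ P * (2 * (q - 1)) := by
    rcases hcase with ⟨-, h⟩ | ⟨n, -, hn, -, -, hn'⟩
    · linarith
    · nlinarith
  have hq0 : 0 < q * (2 * q - 1) := by nlinarith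
  have hRP : R * q ≤ P := by
    refine le_of_mul_le_mul_right ?_ (by linarith : (0:ℝ) < 2 * q - 1)
    nlinarith
  have hlhs : (1 - 1 / q) * P ≤ P - R := by
    have : R ≤ P / q := (le_div_iff₀ (by linarith)).2 hRP
    rw [sub_mul, one_mul, one_div, inv_mul_eq_div]
    linarith
  have hlhs0 : 0 < (1 - 1 / q) * P := by
    refine mul_pos ?_ hP
    rw [sub_pos, div_lt_one (by linarith)]
    linarith
  have hpos : 0 < P - P ^ 2 := by
    by_contra hcon
    push Not at hcon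
    rw [Real.sqrt_eq_zero'.2 hcon] at hle
    linarith
  have hsq : ((1 - 1 / q) * P) ^ 2 ≤ (P - P ^ 2) * (b / (q - 1)) ^ 2 := by
    have := pow_le_pow_left₀ hlhs0.le (hlhs.trans hle) 2
    rwa [mul_pow, mul_pow, Real.sq_sqrt hpos.le, ← mul_pow (1 - 1 / q) P] at this
  have hq1 : 0 < q - 1 := by linarith
  have hsq' : (q - 1) ^ 4 * P ≤ q ^ 2 * b ^ 2 * (1 - P) := by
    have e : ((1 - 1 / q) * P) ^ 2 = P * ((q - 1) ^ 2 * P) / q ^ 2 := by field_simp
    have e' : (P - P ^ 2) * (b / (q - 1)) ^ 2 = P * (b ^ 2 * (1 - P)) / (q - 1) ^ 2 := by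
      field_simp
    rw [e, e', div_le_div_iff₀ (by positivity) (by positivity)] at hsq
    nlinarith
  rcases hcase with ⟨hb1, hP1⟩ | ⟨n, hbn, hnP, hn3, hq8, -⟩
  · have hb2 : b ^ 2 ≤ 1 := by nlinarith
    have h1P : 0 ≤ 1 - P := by nlinarith
    have h1 : (q - 1) ^ 4 * P ≤ q ^ 2 * (1 - P) := by
      nlinarith [mul_le_mul_of_nonneg_left hb2 (mul_nonneg (sq_nonneg q) h1P)]
    have h2 : ((q - 1) ^ 4 + q ^ 2) * 1 ≤ ((q - 1) ^ 4 + q ^ 2) * (2 * (q - 1) * P) :=
      mul_le_mul_of_nonneg_left hP1 (by positivity)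
    have h3 : (q - 1) ^ 4 + q ^ 2 ≤ 2 * (q - 1) * q ^ 2 := by nlinarith
    obtain ⟨x, hx, rfl⟩ : ∃ x, 0 ≤ x ∧ q = 4 + x := ⟨q - 4, by linarith, by ring⟩
    nlinarith [pow_nonneg hx 2, pow_nonneg hx 3, pow_nonneg hx 4]
  · have hn0 : 0 < n := by nlinarith
    have h1P : 0 ≤ 1 - P := by nlinarith
    have hb2 : b ^ 2 ≤ n ^ 2 := pow_le_pow_left₀ hb hbn 2
    have h1 : (q - 1) ^ 4 * P ≤ q ^ 2 * n ^ 2 := by
      nlinarith [mul_le_mul_of_nonneg_left hb2 (mul_nonneg (sq_nonneg q) h1P),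
        mul_nonneg (mul_nonneg (sq_nonneg q) (sq_nonneg n)) hP.le]
    have h2 : (q - 1) ^ 4 ≤ q ^ 2 * n ^ 3 := by
      have hmul := mul_le_mul_of_nonneg_left h1 hn0.le
      have hge := mul_le_mul_of_nonneg_left hnP (by positivity : (0:ℝ) ≤ (q - 1) ^ 4)
      nlinarith
    have h3 : 3 * q ^ 2 ≤ 4 * (q - 1) ^ 2 := by nlinarith
    nlinarith [mul_lt_mul_of_pos_left hn3 (by positivity : (0:ℝ) < (q - 1) ^ 2)]

variable {G : Type w} {Ω : Type z} [Group G] [MulAction G Ω] [Finite G] {a : Ω} {t : G}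
  {Q : Subgroup G}

theorem isPGroup_two (hM : MinHyp G Ω a t Q) (hSec : PropSections.{w, z}) : IsPGroup 2 Q := by
  classical
  haveI := Fintype.ofFinite G
  haveI := Fintype.ofFinite (Cfsg.IrrCharacter G)
  haveI : Fact (Nat.Prime 2) := ⟨Nat.prime_two⟩
  by_contra hQ
  have h := hM.toHyp
  obtain ⟨S, T, hst⟩ := exists_split h
  have hT : T ≠ ⊥ := hst.ne_bot hQ
  obtain ⟨s, hs, hbase⟩ := exists_base h
  obtain ⟨n, hn2, hqn⟩ := qNum_pow h
  obtain ⟨M, hMod⟩ := Blocks.exists_isPModular 2 Nat.prime_two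
  set B := (Cfsg.principalBlock M G).toFinite.toFinset with hB
  have hBmem : ∀ χ, χ ∈ B ↔ χ ∈ Cfsg.principalBlock M G := fun χ => Set.Finite.mem_toFinset _
  set q := qNum G a with hq
  set v := Nat.card (vGrp a t) with hv
  set D := Nat.card (twoStab G a t) with hD
  set A := Nat.card (sing G a) with hA
  set P := propSing G a with hP
  have hkq : Nat.card (kSet a t) = q - 1 := by rw [hq, qNum_eq h]; rfl
  have hq4 : 4 ≤ q := by
    rw [hqn]
    calc 4 = 2 ^ 2 := rfl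
      _ ≤ _ := Nat.pow_le_pow_right (by norm_num) hn2
  have hDv : D = v * (q - 1) := by rw [hD, hv, card_twoStab h, hkq]
  have hga : Nat.card (stabilizer G a) = Nat.card Q * D := card_stab h.setup
  have hGcard : Nat.card G = Nat.card Q * D * (Nat.card Q + 1) := card_group h.setup
  have hQ0 : 0 < Nat.card Q := Nat.card_pos
  have hv0 : 0 < v := Nat.card_pos
  have hV0 : 0 < Nat.card (vKer a t) := Nat.card_pos
  have hS0 : 0 < Nat.card S := Nat.card_pos
  have hfs := fixD_mul_le_sing hM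
  have hPdef : P = (A : ℝ) / ((Nat.card Q : ℝ) * ((v : ℝ) * ((q : ℝ) - 1))) := by
    rw [hP, propSing, ← hA, hga, hDv]
    push_cast [Nat.cast_sub (show 1 ≤ q by omega)]
    ring
  have hq1 : (0 : ℝ) < (q : ℝ) - 1 := by
    have : (4 : ℝ) ≤ q := by exact_mod_cast hq4
    linarith
  have hQR : (0 : ℝ) < Nat.card Q := by exact_mod_cast hQ0
  have hvR : (0 : ℝ) < v := by exact_mod_cast hv0
  have hA1 : (v : ℝ) * Nat.card Q ≤ 2 * A := by
    exact_mod_cast (Nat.mul_le_mul_right _ (card_vGrp_le_fixD hs hbase)).trans hfs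
  have hP1 : 1 ≤ 2 * ((q : ℝ) - 1) * P := by
    rw [hPdef, mul_div_assoc', le_div_iff₀ (by positivity)]
    nlinarith
  have hP0 : 0 < P := by nlinarith
  -- the inertia groups
  obtain ⟨b, hb, hb0, hbcase⟩ : ∃ b : ℝ,
      (∀ I : Subgroup G, I ≤ twoStab G a t →
        (∀ d ∈ I, (orderOf d).Prime → ∃ y ∈ T, y ≠ 1 ∧ d * y = y * d) → (Nat.card I : ℝ) ≤ b) ∧
      0 ≤ b ∧
      ((b ≤ 1 ∧ 1 ≤ 2 * ((q : ℝ) - 1) * P) ∨ ∃ m : ℝ, b ≤ m ∧ 1 ≤ m * P ∧
        4 * m ^ 3 < 3 * ((q : ℝ) - 1) ^ 2 ∧ 8 ≤ (q : ℝ) ∧ m ≤ 2 * ((q : ℝ) - 1)) := by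
    by_cases hex : ∀ I : Subgroup G, I ≤ twoStab G a t →
        (∀ d ∈ I, (orderOf d).Prime → ∃ y ∈ T, y ≠ 1 ∧ d * y = y * d) → Nat.card I ≤ 1
    · exact ⟨1, fun I h1 h2 => by exact_mod_cast hex I h1 h2, zero_le_one, Or.inl ⟨le_rfl, hP1⟩⟩
    push Not at hex
    obtain ⟨I, hI, hfix, hI1⟩ := hex
    have hle : ∀ J : Subgroup G, J ≤ twoStab G a t →
        (∀ d ∈ J, (orderOf d).Prime → ∃ y ∈ T, y ≠ 1 ∧ d * y = y * d) → Nat.card J ≤ n := by
      intro J hJ hJfix
      exact Nat.le_of_mul_le_mul_right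
        ((card_inertia_mul_le hM hSec hst hJ hJfix).trans (card_vGrp_le h hs hbase hqn)) hV0
    have hIodd : Odd (Nat.card I) := h.setup.odd_card.of_dvd_nat (Subgroup.card_dvd_of_le hI)
    have hn3 : 3 ≤ n := by
      have := hle I hI hfix
      obtain ⟨k, hk⟩ := hIodd
      omega
    obtain ⟨r, hr, hrd⟩ := Nat.exists_prime_and_dvd (show Nat.card I ≠ 1 by omega)
    haveI : Fact r.Prime := ⟨hr⟩
    obtain ⟨d, hd⟩ := exists_prime_orderOf_dvd_card' (G := I) r hrd
    rw [← Subgroup.orderOf_coe] at hd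
    have hd1 : (d : G) ≠ 1 := fun e => hr.one_lt.ne' (by rw [← hd, e, orderOf_one])
    obtain ⟨y, hy, hy1, hdy⟩ := hfix d d.2 (hd.symm ▸ hr)
    obtain ⟨e, he, hvv, hv1, hone⟩ := exists_single hM hSec hst (hI d.2) hd1 hy hy1 hdy
    have hA2 : ((q : ℝ) - 1) * v * Nat.card Q ≤ n * A := by
      have h1 : 2 * (q - 1) * Nat.card (vKer a t) * Nat.card Q ≤ 2 * A := by
        rw [← hkq]
        exact (Nat.mul_le_mul_right _ (single_le_fixD hM hvv hv1 hone)).trans hfs
      have h2 : (q - 1) * v * Nat.card Q ≤ n * A :=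
        calc (q - 1) * v * Nat.card Q ≤ (q - 1) * (n * Nat.card (vKer a t)) * Nat.card Q :=
              Nat.mul_le_mul_right _ (Nat.mul_le_mul_left _ (card_vGrp_le h hs hbase hqn))
          _ = n * ((q - 1) * Nat.card (vKer a t) * Nat.card Q) := by ring
          _ ≤ n * A := Nat.mul_le_mul_left _ (by
              have e' : 2 * (q - 1) * Nat.card (vKer a t) * Nat.card Q =
                2 * ((q - 1) * Nat.card (vKer a t) * Nat.card Q) := by ring
              omega)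
      have := (Nat.cast_le (α := ℝ)).2 h2
      push_cast [Nat.cast_sub (show 1 ≤ q by omega)] at this
      linarith
    refine ⟨n, fun J h1 h2 => by exact_mod_cast hle J h1 h2, Nat.cast_nonneg n,
      Or.inr ⟨n, le_rfl, ?_, ?_, ?_, ?_⟩⟩
    · rw [hPdef, mul_div_assoc', le_div_iff₀ (by positivity)]
      nlinarith
    · rw [hqn]; push_cast; exact cube_lt_sq n hn3
    · rw [hqn]; push_cast
      calc (8 : ℝ) = 2 ^ 3 := by norm_num
        _ ≤ _ := pow_le_pow_right₀ (by norm_num) hn3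
    · have h1 : (n : ℝ) + 1 ≤ q := by
        rw [hqn]
        exact_mod_cast Nat.lt_two_pow_self
      linarith
  -- the equation
  set R : ℝ := ((q : ℝ) - 2) / (((q : ℝ) - 1) * ((Nat.card Q : ℝ) + 1)) with hR
  have hsum := sum_avgSing h hs hbase
  have hRval : (((qNum G a - 1) * (qNum G a - 2) * (Nat.card Q * Nat.card (vGrp a t)) ^ 2 : ℕ) : ℂ) /
      ((Nat.card G : ℂ) * Nat.card (stabilizer G a)) = (R : ℂ) := by
    rw [← hq, ← hv, hga, hGcard, hDv, hR]
    have h1 : ((q : ℂ) - 1) ≠ 0 := by exact_mod_cast hq1.ne'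
    have h2 : (Nat.card Q : ℂ) + 1 ≠ 0 := by exact_mod_cast (Nat.card Q).succ_ne_zero
    have h3 : (Nat.card Q : ℂ) ≠ 0 := Nat.cast_ne_zero.2 hQ0.ne'
    have h4 : (v : ℂ) ≠ 0 := Nat.cast_ne_zero.2 hv0.ne'
    push_cast [Nat.cast_sub (show 1 ≤ q by omega), Nat.cast_sub (show 2 ≤ q by omega)]
    field_simp
  rw [hRval] at hsum
  have hone_mem : oneChar G ∈ Cfsg.principalBlock M G := PrincipalCore.Basic.oneChar_mem hMod
  set c : Cfsg.IrrCharacter G → ℂ := fun χ => avgSing a (χ : G → ℂ) with hc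
  set term : Cfsg.IrrCharacter G → ℂ := fun χ => c χ * ((χ : G → ℂ) s) ^ 2 / (χ : G → ℂ) 1
    with hterm
  have hterm1 : term (oneChar G) = (P : ℂ) := by
    simp [hterm, hc, avgSing_one, oneChar_apply, hP]
  have hrest : (P : ℂ) + ∑ χ ∈ B.erase (oneChar G), term χ = (R : ℂ) := by
    rw [← hsum, ← hterm1, Finset.add_sum_erase _ _ ((hBmem _).2 hone_mem)]
    refine Finset.sum_subset (Finset.subset_univ _) fun χ _ hχ => ?_
    simp [hterm, hc, avgSing_eq_zero h hMod fun hm => hχ ((hBmem χ).2 hm)]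
  have hnorm1 : Complex.normSq (c (oneChar G)) = P ^ 2 := by
    simp [hc, avgSing_one, Complex.normSq_ofReal, hP, sq]
  have hcb : ∀ χ, χ ≠ oneChar G → ‖c χ‖ ≤ Real.sqrt (P - P ^ 2) := by
    intro χ hχ
    refine Real.le_sqrt_of_sq_le ?_
    rw [← Complex.normSq_eq_norm_sq]
    have h1 := sum_normSq_avgSing h
    have h2 : Complex.normSq (c χ) + Complex.normSq (c (oneChar G)) ≤
        ∑ ψ : Cfsg.IrrCharacter G, Complex.normSq (c ψ) := by
      rw [← Finset.sum_pair (f := fun ψ => Complex.normSq (c ψ)) hχ]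
      exact Finset.sum_le_sum_of_subset_of_nonneg (Finset.subset_univ _)
        fun _ _ _ => Complex.normSq_nonneg _
    rw [← hP] at h1
    simp only [hnorm1, hc] at h2 ⊢
    linarith
  set σ := Real.sqrt (P - P ^ 2) with hσ
  have hdegb : ∀ χ ∈ B.erase (oneChar G), ‖term χ‖ ≤
      σ * (b / ((v : ℝ) * ((q : ℝ) - 1) * Nat.card S)) * Complex.normSq ((χ : G → ℂ) s) := by
    intro χ hχ
    obtain ⟨hne, hmem⟩ := Finset.mem_erase.1 hχ
    obtain ⟨I, hI, hfix, m, hm, hle⟩ :=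
      exists_inertia h hst hMod hM.simple hT ((hBmem χ).1 hmem) hne
    have hm0 : (0 : ℝ) < m := by
      have := apply_one_ne_zero χ
      rw [hm] at this
      exact_mod_cast Nat.pos_of_ne_zero (by exact_mod_cast this)
    have hden : (0 : ℝ) < (v : ℝ) * ((q : ℝ) - 1) * Nat.card S := by
      have : (0 : ℝ) < Nat.card S := by exact_mod_cast hS0
      positivity
    have hle' : (v : ℝ) * ((q : ℝ) - 1) * Nat.card S ≤ m * b := by
      have h1 : ((D * Nat.card S : ℕ) : ℝ) ≤ ((m * Nat.card I : ℕ) : ℝ) := Nat.cast_le.2 hle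
      rw [hDv] at h1
      push_cast [Nat.cast_sub (show 1 ≤ q by omega)] at h1
      exact h1.trans (mul_le_mul_of_nonneg_left (hb I hI hfix) hm0.le)
    rw [show ‖term χ‖ = ‖c χ‖ * Complex.normSq ((χ : G → ℂ) s) / m by
      simp [hterm, hm, Complex.normSq_eq_norm_sq]]
    rw [mul_assoc σ, mul_div_assoc]
    refine mul_le_mul (hcb χ hne) ?_ (div_nonneg (Complex.normSq_nonneg _) hm0.le) (Real.sqrt_nonneg _)
    rw [div_le_iff₀ hm0, mul_comm (b / _), mul_assoc, ← mul_div_right_comm]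
    refine le_mul_of_one_le_right (Complex.normSq_nonneg _) ?_
    rw [le_div_iff₀ hden]
    linarith
  have hmain : P - R ≤ σ * (b / ((q : ℝ) - 1)) := by
    calc P - R ≤ ‖∑ χ ∈ B.erase (oneChar G), term χ‖ := by
          rw [show ∑ χ ∈ B.erase (oneChar G), term χ = ((R - P : ℝ) : ℂ) by
            push_cast; rw [← hrest]; ring, Complex.norm_real, Real.norm_eq_abs, abs_sub_comm]
          exact le_abs_self _
      _ ≤ ∑ χ ∈ B.erase (oneChar G), ‖term χ‖ := norm_sum_le _ _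
      _ ≤ ∑ χ ∈ B.erase (oneChar G),
          σ * (b / ((v : ℝ) * ((q : ℝ) - 1) * Nat.card S)) * Complex.normSq ((χ : G → ℂ) s) :=
          Finset.sum_le_sum hdegb
      _ ≤ σ * (b / ((v : ℝ) * ((q : ℝ) - 1) * Nat.card S)) *
          ((Nat.card S : ℝ) * Nat.card (vGrp a t)) := by
          rw [← Finset.mul_sum]
          refine mul_le_mul_of_nonneg_left (le_trans ?_ (sum_block_normSq h hst hMod hs hbase))
            (mul_nonneg (Real.sqrt_nonneg _) (div_nonneg hb0 (by positivity)))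
          exact Finset.sum_le_sum_of_subset_of_nonneg (Finset.erase_subset _ _)
            fun _ _ _ => Complex.normSq_nonneg _
      _ = σ * (b / ((q : ℝ) - 1)) := by
          have : (Nat.card S : ℝ) ≠ 0 := Nat.cast_ne_zero.2 hS0.ne'
          rw [← hv]
          field_simp
  -- the bound on `R`
  have hq4R : (4 : ℝ) ≤ q := by exact_mod_cast hq4
  have hRle : R * ((q : ℝ) * (2 * (q : ℝ) - 1)) ≤ 1 := by
    have hS1 := qNum_le_card h hst
    have hT1 := card_T_ge h hst hT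
    rw [← hq] at hS1 hT1
    have hQ1 : (q : ℝ) * (2 * q - 1) ≤ Nat.card Q := by
      rw [hst.card]
      push_cast
      refine mul_le_mul (by exact_mod_cast hS1) ?_ (by linarith) (Nat.cast_nonneg _)
      have := (Nat.cast_le (α := ℝ)).2 hT1
      push_cast at this
      linarith
    rw [hR, div_mul_eq_mul_div, div_le_one (by positivity)]
    exact mul_le_mul (by linarith) (by linarith) (by nlinarith) hq1.le
  exact no_solution hq4R hP0 hRle hb0 hmain hbcase

/-- §6 in the form of the interface, given §2. -/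
theorem propTwoGroup_of (hSec : PropSections.{w, z}) : PropTwoGroup.{w, z} :=
  fun _ _ _ _ _ _ _ _ hM _ => isPGroup_two hM hSec

/-- §6. -/
theorem propTwoGroup : PropTwoGroup.{w, z} := propTwoGroup_of Sections.sections

end Cfsg.Agent.Lib.BenderSuzuki.TwoGroup
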