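import Cfsg.Agent.Lib.Suzuki2.FieldModel
import Mathlib.FieldTheory.Finite.GaloisField

/-!
# At most `n` semilinear actions

A group normalising a commutative group of automorphisms transitive on the non-trivial elements of
an elementary abelian group of order `2 ^ n`, and fixing one of these elements, acts through at most
`n` automorphisms (the automorphisms of `GF(2 ^ n)`).  The argument follows
`Lib.FTDeps.RankOneCore.cyclic_action`.
-/

set_option autoImplicit false

namespace Cfsg.Agent.Lib.BenderSuzuki.TwoGroup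

theorem card_range_le {A : Type*} [Group A] [Finite A] {n : ℕ} (hn : n ≠ 0)
    (hcard : Nat.card A = 2 ^ n) (hsq : ∀ z : A, z * z = 1) (L : Subgroup (MulAut A))
    (hcomm : ∀ k ∈ L, ∀ l ∈ L, k * l = l * k)
    (htrans : ∀ x y : A, x ≠ 1 → y ≠ 1 → ∃ k ∈ L, k x = y) {a₀ : A} (ha₀ : a₀ ≠ 1)
    {V : Type*} [Group V] (ρ : V →* MulAut A) (h₀ : ∀ c, ρ c a₀ = a₀)
    (hnorm : ∀ c, ∀ l ∈ L, ρ c * l * (ρ c)⁻¹ ∈ L) : Nat.card ρ.range ≤ n := by
  classical
  haveI : Fact (Nat.Prime 2) := ⟨Nat.prime_two⟩
  obtain ⟨ι, hι, hadd, hι1, -, hιk⟩ :=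
    Suzuki2.FieldModel.field_model hn hcard hsq L hcomm htrans ha₀
  let e : A ≃ GaloisField 2 n := Equiv.ofBijective ι hι
  have heι : ∀ z, e z = ι z := fun _ => rfl
  have hmul : ∀ (c : V) (x y : GaloisField 2 n),
      e (ρ c (e.symm (x * y))) = e (ρ c (e.symm x)) * e (ρ c (e.symm y)) := by
    intro c x y
    by_cases hx : e.symm x = 1
    · have : x = 0 := by rw [← e.apply_symm_apply x, hx, heι, hι1]
      subst this
      rw [zero_mul, hx, map_one, heι, hι1, zero_mul]
    obtain ⟨k, hk, hkx⟩ := htrans a₀ _ ha₀ hx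
    have h1 : e.symm (x * y) = k (e.symm y) := e.injective (by
      rw [e.apply_symm_apply, heι, hιk k hk, hkx, ← heι, ← heι, e.apply_symm_apply,
        e.apply_symm_apply])
    have h2 : ∀ z, ρ c (k z) = (ρ c * k * (ρ c)⁻¹) (ρ c z) := fun z => by
      rw [MulAut.mul_apply, MulAut.mul_apply, MulAut.inv_apply_self]
    rw [h1, h2, heι, hιk _ (hnorm c k hk), ← hkx, h2 a₀, h₀]
    rfl
  have haddρ : ∀ (c : V) (x y : GaloisField 2 n),
      e (ρ c (e.symm (x + y))) = e (ρ c (e.symm x)) + e (ρ c (e.symm y)) := by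
    intro c x y
    have : e.symm (x + y) = e.symm x * e.symm y := e.injective (by
      rw [e.apply_symm_apply, heι, hadd, ← heι, ← heι, e.apply_symm_apply, e.apply_symm_apply])
    rw [this, map_mul, heι, hadd]
    rfl
  let R : V → (GaloisField 2 n ≃ₐ[ZMod 2] GaloisField 2 n) := fun c =>
    let r : GaloisField 2 n ≃+* GaloisField 2 n :=
      { toFun := fun x => e (ρ c (e.symm x))
        invFun := fun x => e ((ρ c).symm (e.symm x))
        left_inv := fun x => by simp
        right_inv := fun x => by simp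
        map_mul' := hmul c
        map_add' := haddρ c }
    AlgEquiv.ofRingEquiv (f := r) (fun x => DFunLike.congr_fun
      (Subsingleton.elim (r.toRingHom.comp (algebraMap (ZMod 2) (GaloisField 2 n)))
        (algebraMap (ZMod 2) (GaloisField 2 n))) x)
  have hR : ∀ c x, R c x = e (ρ c (e.symm x)) := fun _ _ => rfl
  let f : ρ.range → (GaloisField 2 n ≃ₐ[ZMod 2] GaloisField 2 n) := fun σ => R σ.2.choose
  have hf : Function.Injective f := by
    intro σ τ h
    refine Subtype.ext (MulEquiv.ext fun z => e.injective ?_)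
    have h' := AlgEquiv.congr_fun h (e z)
    simp only [f, hR, e.symm_apply_apply] at h'
    rwa [σ.2.choose_spec, τ.2.choose_spec] at h'
  haveI : Finite (GaloisField 2 n ≃ₐ[ZMod 2] GaloisField 2 n) :=
    Finite.of_injective (fun σ => (σ : GaloisField 2 n → GaloisField 2 n)) DFunLike.coe_injective
  refine (Nat.card_le_card_of_injective f hf).trans (le_of_eq ?_)
  rw [IsGalois.card_aut_eq_finrank, GaloisField.finrank 2 hn]

end Cfsg.Agent.Lib.BenderSuzuki.TwoGroup
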