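import Cfsg.Agent.Lib.Induced.Mackey
import Cfsg.Agent.Lib.Characters.Kernel
import Mathlib.GroupTheory.PGroup

/-!
# An invariant non-trivial character forces a fixed point

If an automorphism `α` with `α ^ p = 1` of a finite group fixes a non-trivial irreducible character,
it fixes a non-trivial element.
-/

set_option autoImplicit false
set_option linter.style.haveILetI false

namespace Cfsg.Agent.Lib.BenderSuzuki.TwoGroup

open Cfsg.Agent.Lib Cfsg.Agent.Lib.Characters.Basic

universe u

theorem exists_fixed_of_invariant_char {X : Type u} [Group X] [Finite X] {p : ℕ} (hp : p.Prime)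
    (α : X ≃* X) (hα : α ^ p = (1 : MulAut X)) (φ : Cfsg.IrrCharacter X) (hφ : φ ≠ oneChar X)
    (hinv : (φ : X → ℂ) ∘ α = (φ : X → ℂ)) : ∃ y : X, y ≠ 1 ∧ α y = y := by
  classical
  haveI : Fact p.Prime := ⟨hp⟩
  have hA : IsPGroup p (Subgroup.zpowers (α : MulAut X)) := by
    rcases (Nat.dvd_prime hp).1 (orderOf_dvd_of_pow_eq_one hα) with hk | hk
    · exact IsPGroup.of_card (n := 0) (by rw [Nat.card_zpowers, hk, pow_zero])
    · exact IsPGroup.of_card (n := 1) (by rw [Nat.card_zpowers, hk, pow_one])
  have hfix : ∀ y : X, y ∈ MulAction.fixedPoints (Subgroup.zpowers (α : MulAut X)) X → α y = y :=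
    fun y hy => hy ⟨α, Subgroup.mem_zpowers _⟩
  have hfix' : ∀ y : X, α y = y → y ∈ MulAction.fixedPoints (Subgroup.zpowers (α : MulAut X)) X :=
    fun y hy u => by
      obtain ⟨u, hu⟩ := u
      exact (show Subgroup.zpowers (α : MulAut X) ≤ MulAction.stabilizer (MulAut X) y from
        Subgroup.zpowers_le.2 hy) hu
  by_cases hpd : p ∣ Nat.card X
  · obtain ⟨y, hy, hne⟩ := hA.exists_fixed_point_of_prime_dvd_card_of_fixed_point X hpd
      (hfix' 1 (map_one α))
    exact ⟨y, hne.symm, hfix y hy⟩
  · have hC : 2 ≤ Nat.card {C : ConjClasses X // ConjClasses.map α.toMonoidHom C = C} := by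
      rw [Induced.Mackey.card_fixed_classes_eq]
      refine Finite.one_lt_card_iff_nontrivial.2
        ⟨⟨φ, hinv⟩, ⟨oneChar X, funext fun y => rfl⟩, fun e => hφ (congrArg Subtype.val e)⟩
    obtain ⟨⟨C, hC1⟩, hne⟩ : ∃ C : {C : ConjClasses X // ConjClasses.map α.toMonoidHom C = C},
        C ≠ ⟨ConjClasses.mk 1, by
          show ConjClasses.mk (α 1) = _
          rw [map_one]⟩ := by
      haveI : Finite (ConjClasses X) := Finite.of_surjective _ (ConjClasses.mk_surjective (α := X))
      haveI := Finite.one_lt_card_iff_nontrivial.1 hC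
      exact exists_ne _
    obtain ⟨c, rfl⟩ := ConjClasses.mk_surjective C
    have hcl : IsConj c (α c) :=
      (ConjClasses.mk_eq_mk_iff_isConj.1 hC1).symm
    let O : SubMulAction (Subgroup.zpowers (α : MulAut X)) X :=
      { carrier := {x | IsConj c x}
        smul_mem' := fun u x hx => by
          let S : Subgroup (MulAut X) :=
            { carrier := {β | ∀ x, IsConj c (β x) ↔ IsConj c x}
              one_mem' := fun x => Iff.rfl
              mul_mem' := fun {β γ} hβ hγ x => (hβ (γ x)).trans (hγ x)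
              inv_mem' := fun {β} hβ x => by
                rw [← hβ (β⁻¹ x), MulAut.apply_inv_self] }
          have hαS : (α : MulAut X) ∈ S := fun x => by
            refine ⟨fun hx => ?_, fun hx => hcl.trans (α.toMonoidHom.map_isConj hx)⟩
            have h1 := α.symm.toMonoidHom.map_isConj (hcl.symm.trans hx)
            simpa using h1
          exact ((show Subgroup.zpowers (α : MulAut X) ≤ S from Subgroup.zpowers_le.2 hαS) u.2 x).2 hx }
    have hO : ¬ p ∣ Nat.card O := fun h => hpd (h.trans
      (Characters.Complete.card_conjugates_mul_centralizer c ▸ Dvd.intro _ rfl))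
    obtain ⟨⟨y, hy⟩, hy'⟩ := hA.nonempty_fixed_point_of_prime_not_dvd_card O hO
    refine ⟨y, fun h1 => hne (Subtype.ext ?_), congrArg Subtype.val (hy' ⟨α, Subgroup.mem_zpowers _⟩)⟩
    subst h1
    exact ConjClasses.mk_eq_mk_iff_isConj.2 hy

end Cfsg.Agent.Lib.BenderSuzuki.TwoGroup
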