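import Cfsg.Agent.Lib.PrincipalCore.Basic
import Cfsg.Agent.Lib.RankOne.Involution

/-!
# The principal block on the section of a p-element with p-solvable centraliser

For a `p`-element `z` whose centraliser `H` is `p`-solvable, with `K = O_{p'}(H)`: a character of
the principal block is constant on the cosets `g K` inside the section of `z`, and every other
character sums to zero over them.
-/

set_option autoImplicit false
set_option linter.style.haveILetI false

namespace Cfsg.Agent.Lib.BenderSuzuki.TwoGroup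

open Cfsg.Agent.Lib.Characters.Basic Cfsg.Agent.Lib.BrauerMap
open scoped ComplexConjugate

universe u

variable {G : Type u} [Group G] [Finite G] {p : ℕ} [hp : Fact p.Prime] {M : Ideal Cfsg.AlgInt}

/-- The p'-core of the centraliser of `z`. -/
abbrev secCore (p : ℕ) (z : G) : Subgroup (Subgroup.centralizer ({z} : Set G)) :=
  Cfsg.pPrimeCore p (Subgroup.centralizer ({z} : Set G))

/-- Conjugates of `h` by elements of the centraliser of `z` that lie in `g K`. -/
noncomputable def secCount (p : ℕ) (z : G) (g h : Subgroup.centralizer ({z} : Set G)) : ℕ :=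
  Nat.card {v : Subgroup.centralizer ({z} : Set G) // g⁻¹ * (v * h * v⁻¹) ∈ secCore p z}

theorem sum_block_section (hM : Cfsg.IsPModular p M) {z : G}
    (hsolv : Cfsg.IsPSolvable p (Subgroup.centralizer ({z} : Set G)))
    (g h : Subgroup.centralizer ({z} : Set G))
    (hg : Cfsg.IsPPart p (g : G) z) (hh : Cfsg.IsPPart p (h : G) z) :
    ∑ᶠ χ ∈ Cfsg.principalBlock M G, (χ : G → ℂ) g * conj ((χ : G → ℂ) (h : G)) =
      (secCount p z g h : ℂ) / Nat.card (secCore p z) := by
  classical
  haveI := hM.2.1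
  haveI := Fintype.ofFinite G
  have h1 := PrincipalSection.sum_principal_section hM g h hg hh
  have h2 : ∀ χ : Cfsg.IrrCharacter G, (χ : G → ℂ) (h : G)⁻¹ = conj ((χ : G → ℂ) (h : G)) :=
    fun χ => apply_inv (isCharacter_irr χ) _
  simp only [h2] at h1
  rw [h1, ← Blocks.sum_blockCoeff_conj,
    show Cfsg.principalBlock M (Subgroup.centralizer ({z} : Set G)) =
      {ψ : Cfsg.IrrCharacter (Subgroup.centralizer ({z} : Set G)) | ∀ n ∈ secCore p z,
        (ψ : Subgroup.centralizer ({z} : Set G) → ℂ) n =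
        (ψ : Subgroup.centralizer ({z} : Set G) → ℂ) 1} from
      Set.ext fun ψ => PrincipalCore.Basic.mem_iff_of_solvable hM hsolv]
  simp only [Inflation.blockCoeff_trivialOn]
  rw [← Finset.sum_filter, Finset.sum_const, nsmul_eq_mul, secCount, div_eq_mul_inv]
  simp only [Nat.card_eq_fintype_card, Fintype.card_subtype]

omit hp [Finite G] in
theorem secCount_mul_right {z : G} (g h : Subgroup.centralizer ({z} : Set G))
    {u u' : Subgroup.centralizer ({z} : Set G)} [hn : (secCore p z).Normal]
    (hu : u ∈ secCore p z) (hu' : u' ∈ secCore p z) :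
    secCount p z (g * u) (h * u') = secCount p z g h := by
  refine Nat.card_congr (Equiv.subtypeEquivRight fun v => ?_)
  rw [show (g * u)⁻¹ * (v * (h * u') * v⁻¹) = u⁻¹ * (g⁻¹ * (v * h * v⁻¹) * (v * u' * v⁻¹)) by group,
    Subgroup.mul_mem_cancel_left _ (inv_mem hu), Subgroup.mul_mem_cancel_right _ (hn.conj_mem u' hu' v)]

/-- Multiplying by an element of the core keeps the p-part. -/
theorem isPPart_mul_core {z : G} {g : Subgroup.centralizer ({z} : Set G)}
    (hg : Cfsg.IsPPart p (g : G) z) {u : Subgroup.centralizer ({z} : Set G)}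
    (hu : u ∈ secCore p z) : Cfsg.IsPPart p ((g * u : Subgroup.centralizer ({z} : Set G)) : G) z := by
  obtain ⟨y, hy, hc, hk, hny⟩ := hg
  have hym : y ∈ Subgroup.centralizer ({z} : Set G) :=
    Subgroup.mem_centralizer_singleton_iff.2 hc.eq.symm
  set y' : Subgroup.centralizer ({z} : Set G) := ⟨y, hym⟩
  have hyu : ((y' * u : Subgroup.centralizer ({z} : Set G)) : G) = y * u := rfl
  refine ⟨y * u, ?_, ?_, hk, ?_⟩
  · rw [← mul_assoc, hy]; rfl
  · exact (Subgroup.mem_centralizer_singleton_iff.1 (mul_mem hym u.2)).symm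
  · intro hdvd
    rw [← hyu, Subgroup.orderOf_coe] at hdvd
    have hq : orderOf (QuotientGroup.mk' (secCore p z) (y' * u)) ∣ orderOf y := by
      rw [map_mul, show QuotientGroup.mk' (secCore p z) u = 1 from (QuotientGroup.eq_one_iff u).2 hu,
        mul_one, show y = (y' : G) from rfl, Subgroup.orderOf_coe]
      exact orderOf_map_dvd _ _
    have hmem : (y' * u) ^ orderOf y ∈ secCore p z := by
      rw [← QuotientGroup.eq_one_iff]
      exact (map_pow (QuotientGroup.mk' (secCore p z)) _ _).trans (orderOf_dvd_iff_pow_eq_one.1 hq)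
    have hdiv : orderOf (y' * u) ∣ orderOf y * Nat.card (secCore p z) := by
      rw [orderOf_dvd_iff_pow_eq_one, pow_mul]
      exact RankOne.Involution.pow_card_eq_one_mem hmem
    rcases (Nat.Prime.dvd_mul hp.out).1 (hdvd.trans hdiv) with h | h
    · exact hny h
    · exact PrincipalCore.Basic.not_dvd_core h

variable {z : G} (hM : Cfsg.IsPModular p M)
  (hsolv : Cfsg.IsPSolvable p (Subgroup.centralizer ({z} : Set G)))
  {g : Subgroup.centralizer ({z} : Set G)} (hg : Cfsg.IsPPart p (g : G) z)

include hM hsolv hg in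
/-- A character of the principal block is constant on `g K`. -/
theorem apply_mul_core {χ : Cfsg.IrrCharacter G} (hχ : χ ∈ Cfsg.principalBlock M G)
    {u : Subgroup.centralizer ({z} : Set G)} (hu : u ∈ secCore p z) :
    (χ : G → ℂ) ((g : G) * u) = (χ : G → ℂ) g := by
  classical
  haveI := Fintype.ofFinite (Cfsg.IrrCharacter G)
  have hgu := isPPart_mul_core hg hu
  have e11 := sum_block_section hM hsolv (g * u) (g * u) hgu hgu
  have e10 := sum_block_section hM hsolv (g * u) g hgu hg
  have e01 := sum_block_section hM hsolv g (g * u) hg hgu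
  have e00 := sum_block_section hM hsolv g g hg hg
  rw [secCount_mul_right g g hu hu] at e11
  rw [show secCount p z (g * u) g = secCount p z g g by
    simpa using secCount_mul_right g g hu (one_mem _)] at e10
  rw [show secCount p z g (g * u) = secCount p z g g by
    simpa using secCount_mul_right g g (one_mem _) hu] at e01
  simp only [finsum_mem_eq_toFinset_sum, Subgroup.coe_mul] at e11 e10 e01 e00
  set B := (Cfsg.principalBlock M G).toFinset
  have h : ∑ ψ ∈ B, ((Complex.normSq ((ψ : G → ℂ) ((g : G) * u) - (ψ : G → ℂ) g) : ℝ) : ℂ) = 0 := by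
    simp only [← Complex.mul_conj, map_sub, sub_mul, mul_sub, Finset.sum_sub_distrib]
    rw [e11, e10, e01, e00]
    ring
  rw [← Complex.ofReal_sum, Complex.ofReal_eq_zero,
    Finset.sum_eq_zero_iff_of_nonneg fun _ _ => Complex.normSq_nonneg _] at h
  exact sub_eq_zero.1 (Complex.normSq_eq_zero.1 (h χ (Set.mem_toFinset.2 hχ)))

include hM hsolv hg in
/-- A character outside the principal block sums to zero over `g K`. -/
theorem sum_core_eq_zero [Fintype (secCore p z)] {χ : Cfsg.IrrCharacter G}
    (hχ : χ ∉ Cfsg.principalBlock M G) :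
    ∑ u : secCore p z, (χ : G → ℂ) ((g : G) * (u : Subgroup.centralizer ({z} : Set G))) = 0 := by
  classical
  haveI := Fintype.ofFinite G
  haveI := Fintype.ofFinite (Cfsg.IrrCharacter G)
  let e : secCore p z → G := fun u => (g : G) * (u : Subgroup.centralizer ({z} : Set G))
  let S : Cfsg.IrrCharacter G → ℂ := fun ψ => ∑ u, (ψ : G → ℂ) (e u)
  have hexp : ∀ ψ : Cfsg.IrrCharacter G, ((Complex.normSq (S ψ) : ℝ) : ℂ) =
      ∑ u, ∑ u', (ψ : G → ℂ) (e u) * conj ((ψ : G → ℂ) (e u')) := by
    intro ψ
    rw [← Complex.mul_conj, map_sum, Finset.sum_mul_sum]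
  have hall : ∀ u u' : secCore p z,
      ∑ ψ : Cfsg.IrrCharacter G, (ψ : G → ℂ) (e u) * conj ((ψ : G → ℂ) (e u')) =
        (Nat.card {v : G // e u = v * e u' * v⁻¹} : ℂ) := by
    intro u u'
    rw [Nat.card_eq_fintype_card, Fintype.card_subtype, ← Finset.sum_boole,
      ← PrincipalSection.sum_irr_mul_inv]
    exact Finset.sum_congr rfl fun ψ _ => by rw [apply_inv (isCharacter_irr ψ)]
  set c := secCount p z g g with hc
  have hpairs : ∀ u : secCore p z, ∑ u', Nat.card {v : G // e u = v * e u' * v⁻¹} = c := by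
    intro u
    rw [← Nat.card_sigma]
    have hcu : c = secCount p z (g * u) g := by
      simpa using (secCount_mul_right g g u.2 (one_mem _)).symm
    rw [hcu, secCount]
    refine Nat.card_eq_of_bijective
      (fun w => (⟨⟨w.2.1, ?_⟩, ?_⟩ : {v : Subgroup.centralizer ({z} : Set G) //
        (g * (u : Subgroup.centralizer ({z} : Set G)))⁻¹ * (v * g * v⁻¹) ∈ secCore p z})) ⟨?_, ?_⟩
    · have h1 : Cfsg.IsPPart p (e u) z := isPPart_mul_core hg u.2
      have h2 := PrincipalSection.isPPart_conj (isPPart_mul_core hg w.1.2) w.2.1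
      rw [Subgroup.coe_mul, ← w.2.2] at h2
      exact Subgroup.mem_centralizer_singleton_iff.2
        (mul_inv_eq_iff_eq_mul.1 (PrincipalSection.isPPart_unique hp.out h2 h1))
    · obtain ⟨u', v, hv⟩ := w
      have hvm : v ∈ Subgroup.centralizer ({z} : Set G) := by
        have h1 : Cfsg.IsPPart p (e u) z := isPPart_mul_core hg u.2
        have h2 := PrincipalSection.isPPart_conj (isPPart_mul_core hg u'.2) v
        rw [Subgroup.coe_mul, ← hv] at h2
        exact Subgroup.mem_centralizer_singleton_iff.2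
          (mul_inv_eq_iff_eq_mul.1 (PrincipalSection.isPPart_unique hp.out h2 h1))
      set v' : Subgroup.centralizer ({z} : Set G) := ⟨v, hvm⟩
      have hv' : g * u = v' * (g * (u' : Subgroup.centralizer ({z} : Set G))) * v'⁻¹ := Subtype.ext hv
      show (g * u)⁻¹ * (v' * g * v'⁻¹) ∈ secCore p z
      rw [hv', show (v' * (g * (u' : Subgroup.centralizer ({z} : Set G))) * v'⁻¹)⁻¹ * (v' * g * v'⁻¹) =
        v' * (u' : Subgroup.centralizer ({z} : Set G))⁻¹ * v'⁻¹ by group]
      exact (inferInstance : (secCore p z).Normal).conj_mem _ (inv_mem u'.2) v'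
    · rintro ⟨u₁, v, h₁⟩ ⟨u₂, w, h₂⟩ h
      have hvw : v = w := congrArg Subtype.val (congrArg Subtype.val h)
      subst hvw
      have : u₁ = u₂ := Subtype.ext (Subtype.ext
        (mul_left_cancel (mul_left_cancel (mul_right_cancel (h₁.symm.trans h₂)))))
      subst this
      rfl
    · rintro ⟨v, hv⟩
      have hv' : v⁻¹ * ((g * (u : Subgroup.centralizer ({z} : Set G)))⁻¹ * (v * g * v⁻¹))⁻¹ * v ∈
          secCore p z := by
        simpa using (inferInstance : (secCore p z).Normal).conj_mem _ (inv_mem hv) v⁻¹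
      refine ⟨⟨⟨_, hv'⟩, (v : G), ?_⟩, rfl⟩
      simp only [e, Subgroup.coe_mul, Subgroup.coe_inv]
      group
  have hK : (Nat.card (secCore p z) : ℂ) ≠ 0 := Nat.cast_ne_zero.2 Nat.card_pos.ne'
  have htot : ∑ ψ : Cfsg.IrrCharacter G, ((Complex.normSq (S ψ) : ℝ) : ℂ) =
      (Nat.card (secCore p z) : ℂ) * c := by
    simp only [hexp]
    rw [Finset.sum_comm, Finset.sum_congr rfl (g := fun _ => (c : ℂ)) fun u _ => ?_, Finset.sum_const,
      nsmul_eq_mul, Nat.card_eq_fintype_card, Finset.card_univ]
    rw [Finset.sum_comm, Finset.sum_congr rfl fun u' _ => hall u u', ← Nat.cast_sum, hpairs u]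
  have hblk : ∑ ψ ∈ (Cfsg.principalBlock M G).toFinset, ((Complex.normSq (S ψ) : ℝ) : ℂ) =
      (Nat.card (secCore p z) : ℂ) * c := by
    simp only [hexp]
    rw [Finset.sum_comm, Finset.sum_congr rfl (g := fun _ => (c : ℂ)) fun u _ => ?_, Finset.sum_const,
      nsmul_eq_mul, Nat.card_eq_fintype_card, Finset.card_univ]
    rw [Finset.sum_comm, Finset.sum_congr rfl (g := fun _ => (c : ℂ) / Nat.card (secCore p z))
      fun u' _ => ?_, Finset.sum_const, nsmul_eq_mul, Finset.card_univ, ← Nat.card_eq_fintype_card,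
      mul_div_assoc', mul_div_cancel_left₀ _ hK]
    rw [← finsum_mem_eq_toFinset_sum,
      show e u = ((g * u : Subgroup.centralizer ({z} : Set G)) : G) from rfl,
      show e u' = ((g * u' : Subgroup.centralizer ({z} : Set G)) : G) from rfl,
      sum_block_section hM hsolv _ _ (isPPart_mul_core hg u.2) (isPPart_mul_core hg u'.2),
      secCount_mul_right g g u.2 u'.2]
  have hzero : ∑ ψ ∈ (Cfsg.principalBlock M G).toFinsetᶜ, ((Complex.normSq (S ψ) : ℝ) : ℂ) = 0 := by
    rw [← add_right_inj (∑ ψ ∈ (Cfsg.principalBlock M G).toFinset,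
      ((Complex.normSq (S ψ) : ℝ) : ℂ)), Finset.sum_add_sum_compl, add_zero, htot, hblk]
  rw [← Complex.ofReal_sum, Complex.ofReal_eq_zero,
    Finset.sum_eq_zero_iff_of_nonneg fun _ _ => Complex.normSq_nonneg _] at hzero
  exact Complex.normSq_eq_zero.1 (hzero χ (by simpa using hχ))

end Cfsg.Agent.Lib.BenderSuzuki.TwoGroup
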