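import Cfsg.Agent.Lib.BenderSuzuki.TwoGroup.Local
import Cfsg.Agent.Lib.BenderSuzuki.TwoGroup.Section
import Cfsg.Agent.Lib.BenderSuzuki.TwoGroup.Fixed

/-!
# §6: degrees in the principal 2-block

A non-trivial character of the principal 2-block is constant on `x T` for `x ∈ S`, `x ≠ 1`; so its
multiplicities on `T` at non-trivial characters are multiples of `|S|`, and its degree is at least
`|S| |D : I|` for an inertia group `I`.
-/

set_option autoImplicit false
set_option linter.unusedSectionVars false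
set_option linter.style.haveILetI false

namespace Cfsg.Agent.Lib.BenderSuzuki.TwoGroup

open MulAction Cfsg.Agent.Lib.RankOne.Basic Cfsg.Agent.Lib.RankOne.Involution
open Cfsg.Agent.Lib.Characters.Basic
open scoped ComplexConjugate

universe w z

variable {G : Type w} {Ω : Type z} [Group G] [MulAction G Ω] [Finite G] {a : Ω} {t : G}
  {Q : Subgroup G} (h : Hyp G Ω a t Q) {S T : Subgroup G} (hst : Split Q S T)
  {M : Ideal Cfsg.AlgInt} (hMod : Cfsg.IsPModular 2 M)

include h hst

theorem two_dvd_orderOf {x : G} (hx : x ∈ S) (hx1 : x ≠ 1) : 2 ∣ orderOf x := by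
  obtain ⟨k, hk⟩ := orderOf_two_pow hst.two hx
  rw [hk]
  refine dvd_pow_self 2 fun hk0 => hx1 ?_
  rw [hk0, pow_zero] at hk
  exact orderOf_eq_one_iff.1 hk

/-- `T` lies in the 2'-core of the centraliser of a non-trivial element of `S`. -/
theorem T_mem_secCore {x : G} (hx : x ∈ S) (hx1 : x ≠ 1) {y : G} (hy : y ∈ T) :
    ∃ hy' : y ∈ Subgroup.centralizer ({x} : Set G),
      (⟨y, hy'⟩ : Subgroup.centralizer ({x} : Set G)) ∈ secCore 2 x := by
  have hle : T ≤ Subgroup.centralizer ({x} : Set G) := fun u hu =>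
    Subgroup.mem_centralizer_singleton_iff.2 (hst.comm x hx u hu).symm
  have hn : (T.subgroupOf (Subgroup.centralizer ({x} : Set G))).Normal := ⟨fun u hu v =>
    conj_mem_T h hst (centralizer_le_stab h (two_dvd_orderOf h hst hx hx1)
      (Q_fix h.setup (hst.S_le hx)) v.2) hu⟩
  refine ⟨hle hy, PSolvable.le_pPrimeCore hn ?_ (Subgroup.mem_subgroupOf.2 hy)⟩
  rw [Nat.card_congr (Subgroup.subgroupOfEquivOfLe hle).toEquiv]
  exact Nat.coprime_two_right.2 hst.odd

include hMod in
theorem apply_mul_T {χ : Cfsg.IrrCharacter G} (hχ : χ ∈ Cfsg.principalBlock M G) {x : G}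
    (hx : x ∈ S) (hx1 : x ≠ 1) {y : G} (hy : y ∈ T) :
    (χ : G → ℂ) (x * y) = (χ : G → ℂ) x := by
  haveI : Fact (Nat.Prime 2) := ⟨Nat.prime_two⟩
  obtain ⟨hy', hmem⟩ := T_mem_secCore h hst hx hx1 hy
  have hsolv := pSolvable_centralizer h (two_dvd_orderOf h hst hx hx1) (Q_fix h.setup (hst.S_le hx))
  obtain ⟨k, hk⟩ := orderOf_two_pow hst.two hx
  have hpp : Cfsg.IsPPart 2 x x :=
    ⟨1, mul_one x, Commute.one_right x, ⟨k, hk⟩, by rw [orderOf_one]; norm_num⟩
  exact apply_mul_core (g := ⟨x, Subgroup.mem_centralizer_singleton_iff.2 rfl⟩) hMod hsolv hpp hχ hmem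

include hMod in
/-- The multiplicity of a non-trivial irreducible character of `T` is a multiple of `|S|`. -/
theorem card_S_dvd_mult [Fintype T] {χ : Cfsg.IrrCharacter G} (hχ : χ ∈ Cfsg.principalBlock M G)
    (φ : Cfsg.IrrCharacter T) (hφ : φ ≠ oneChar T) :
    ∃ m : ℕ, Cfsg.classInner (fun y : T => (χ : G → ℂ) y) φ = (Nat.card S * m : ℕ) := by
  classical
  haveI := Fintype.ofFinite S
  haveI := Fintype.ofFinite Q
  let ψ : S × T →* Q :=
    { toFun := fun p => ⟨(p.1 : G) * p.2, Q.mul_mem (hst.S_le p.1.2) (hst.T_le p.2.2)⟩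
      map_one' := Subtype.ext (one_mul 1)
      map_mul' := fun p q => Subtype.ext (by
        show ((p.1 : G) * q.1) * (p.2 * q.2) = p.1 * p.2 * (q.1 * q.2)
        rw [mul_assoc, ← mul_assoc (q.1 : G), hst.comm _ q.1.2 _ p.2.2]
        group) }
  let e : S × T ≃* Q := MulEquiv.ofBijective ψ hst.bij
  let π : Q →* T := (MonoidHom.snd S T).comp e.symm.toMonoidHom
  obtain ⟨m, hm⟩ := exists_classInner_nat (isCharacter_comp Q.subtype (isCharacter_irr χ))
    (isCharacter_comp π (isCharacter_irr φ))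
  refine ⟨m, ?_⟩
  have hsum : ∑ y : T, conj ((φ : T → ℂ) y) = 0 := by
    have h0 := classInner_irr_of_ne hφ
    simp only [Cfsg.classInner, oneChar_apply, map_one, mul_one, mul_eq_zero, inv_eq_zero,
      Nat.cast_eq_zero, Nat.card_pos.ne', false_or] at h0
    rw [← map_sum, h0, map_zero]
  rw [Cfsg.classInner, inv_mul_eq_iff_eq_mul₀ (Nat.cast_ne_zero.2 Nat.card_pos.ne')] at hm
  rw [Cfsg.classInner, inv_mul_eq_iff_eq_mul₀ (Nat.cast_ne_zero.2 Nat.card_pos.ne'), Nat.cast_mul,
    ← mul_assoc, ← Nat.cast_mul, mul_comm (Nat.card T), ← hst.card, ← hm]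
  symm
  rw [← e.toEquiv.sum_comp, Fintype.sum_prod_type, Finset.sum_eq_single (1 : S)]
  · refine Finset.sum_congr rfl fun y _ => ?_
    show (χ : G → ℂ) ((ψ (1, y) : Q) : G) * conj ((φ : T → ℂ) (e.symm (e (1, y))).2) = _
    rw [e.symm_apply_apply]
    simp [ψ]
  · intro x _ hx
    show ∑ y : T, (χ : G → ℂ) ((ψ (x, y) : Q) : G) * conj ((φ : T → ℂ) (e.symm (e (x, y))).2) = 0
    simp only [MulEquiv.symm_apply_apply]
    rw [Finset.sum_congr rfl (g := fun y => (χ : G → ℂ) x * conj ((φ : T → ℂ) y)) fun y _ => by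
      rw [show ((ψ (x, y) : Q) : G) = (x : G) * y from rfl,
        apply_mul_T h hst hMod hχ x.2 (fun e' => hx (Subtype.ext e')) y.2]]
    rw [← Finset.mul_sum, hsum, mul_zero]
  · intro hne
    exact absurd (Finset.mem_univ _) hne

include hMod in
/-- The degree bound. -/
theorem exists_inertia (hsimple : IsSimpleGroup G) (hT : T ≠ ⊥) {χ : Cfsg.IrrCharacter G}
    (hχ : χ ∈ Cfsg.principalBlock M G) (hχ1 : χ ≠ oneChar G) :
    ∃ I : Subgroup G, I ≤ twoStab G a t ∧
      (∀ d ∈ I, (orderOf d).Prime → ∃ y ∈ T, y ≠ 1 ∧ d * y = y * d) ∧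
      ∃ n : ℕ, (χ : G → ℂ) 1 = (n : ℂ) ∧
        Nat.card (twoStab G a t) * Nat.card S ≤ n * Nat.card I := by
  classical
  haveI := Fintype.ofFinite G
  haveI := Fintype.ofFinite T
  haveI := Fintype.ofFinite (Cfsg.IrrCharacter T)
  have hres : Cfsg.IsCharacter T (fun y : T => (χ : G → ℂ) y) :=
    isCharacter_comp T.subtype (isCharacter_irr χ)
  choose mult hmult using fun η => exists_classInner_nat hres (isCharacter_irr (G := T) η)
  have hdeg : ∀ η : Cfsg.IrrCharacter T, ∃ e : ℕ, 0 < e ∧ (η : T → ℂ) 1 = (e : ℂ) :=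
    exists_degree_pos
  choose e he heq using hdeg
  obtain ⟨n, -, hn⟩ := exists_degree_pos χ
  have hexp := character_eq_finsum hres
  rw [finsum_eq_sum_of_fintype] at hexp
  have hn' : n = ∑ η, mult η * e η := by
    have := congrFun hexp 1
    simp only [Finset.sum_apply, Pi.smul_apply, smul_eq_mul, heq, hmult, Subgroup.coe_one, hn] at this
    exact_mod_cast this
  obtain ⟨φ, hφ, hφm⟩ : ∃ φ, φ ≠ oneChar T ∧ mult φ ≠ 0 := by
    by_contra hcon
    push Not at hcon
    have hconst : ∀ y : T, (χ : G → ℂ) y = (χ : G → ℂ) 1 := by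
      intro y
      have h1 := congrFun hexp y
      have h2 := congrFun hexp 1
      rw [Finset.sum_apply, Finset.sum_eq_single (oneChar T) (fun η _ hne => by
        simp [hmult, hcon η hne]) (fun hne => absurd (Finset.mem_univ _) hne)] at h1 h2
      simp only [Subgroup.coe_one] at h1 h2
      rw [h1, h2]
      simp [oneChar_apply]
    obtain ⟨g, hg⟩ : ∃ g, (χ : G → ℂ) g ≠ (χ : G → ℂ) 1 := by
      by_contra hc
      push Not at hc
      exact hχ1 (PrincipalCore.Basic.eq_oneChar_of_const hc)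
    haveI := hsimple
    have hker := Characters.Kernel.charKer_eq_bot_of_simple (isCharacter_irr χ) hg
    refine hT ((Subgroup.eq_bot_iff_forall T).2 fun y hy => ?_)
    have hy' : y ∈ Characters.Kernel.charKer (isCharacter_irr χ) := hconst ⟨y, hy⟩
    rwa [hker, Subgroup.mem_bot] at hy'
  obtain ⟨m, hm⟩ := card_S_dvd_mult h hst hMod hχ φ hφ
  have hSm : Nat.card S ≤ mult φ := by
    have hm' : mult φ = Nat.card S * m := by exact_mod_cast (hmult φ).symm.trans hm
    refine Nat.le_of_dvd (Nat.pos_of_ne_zero hφm) (hm' ▸ dvd_mul_right _ _)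
  -- conjugates of `φ`
  let F : G → ℂ := fun g => if hg : g ∈ T then (φ : T → ℂ) ⟨g, hg⟩ else 0
  let conjT : twoStab G a t → T ≃* T := fun d =>
    { toFun := fun y => ⟨(d : G) * y * (d : G)⁻¹, conj_mem_T h hst d.2.1 y.2⟩
      invFun := fun y => ⟨(d : G)⁻¹ * y * (d : G), by
        simpa using conj_mem_T h hst ((twoStab G a t).inv_mem d.2).1 y.2⟩
      left_inv := fun y => Subtype.ext (by simp [mul_assoc])
      right_inv := fun y => Subtype.ext (by simp [mul_assoc])
      map_mul' := fun y y' => Subtype.ext (by simp [mul_assoc]) }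
  have hFc : ∀ (d : twoStab G a t) (y : T), (φ : T → ℂ) (conjT d y) = F ((d : G) * y * (d : G)⁻¹) :=
    fun d y => by simp only [F, dif_pos (conj_mem_T h hst d.2.1 y.2)]; rfl
  let conjφ : twoStab G a t → Cfsg.IrrCharacter T := fun d =>
    ⟨(φ : T → ℂ) ∘ conjT d, isIrrCharacter_comp (conjT d).toMonoidHom (conjT d).surjective φ.2⟩
  let I : Subgroup G :=
    { carrier := {d | d ∈ twoStab G a t ∧ ∀ y ∈ T, F (d * y * d⁻¹) = F y}
      one_mem' := ⟨one_mem _, fun y _ => by simp⟩
      mul_mem' := fun {d d'} hd hd' => ⟨mul_mem hd.1 hd'.1, fun y hy => by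
        rw [show d * d' * y * (d * d')⁻¹ = d * (d' * y * d'⁻¹) * d⁻¹ by group,
          hd.2 _ (conj_mem_T h hst hd'.1.1 hy), hd'.2 y hy]⟩
      inv_mem' := fun {d} hd => ⟨inv_mem hd.1, fun y hy => by
        have := hd.2 _ (conj_mem_T h hst ((twoStab G a t).inv_mem hd.1).1 hy)
        rw [show d * (d⁻¹ * y * d⁻¹⁻¹) * d⁻¹ = y by group] at this
        exact this.symm⟩ }
  have hFy : ∀ y : T, F (y : G) = (φ : T → ℂ) y := fun y => dif_pos y.2
  refine ⟨I, fun d hd => hd.1, fun d hd hp => ?_, n, hn, ?_⟩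
  · have hpow : ∀ k : ℕ, ∀ y : T, (((conjT ⟨d, hd.1⟩ : MulAut T) ^ k) y : G) = d ^ k * y * (d ^ k)⁻¹ := by
      intro k
      induction k with
      | zero => simp
      | succ k ih =>
        intro y
        rw [pow_succ', MulAut.mul_apply]
        show d * (((conjT ⟨d, hd.1⟩ : MulAut T) ^ k) y : G) * d⁻¹ = _
        rw [ih, pow_succ' d]
        group
    obtain ⟨y, hy1, hy⟩ := exists_fixed_of_invariant_char hp (conjT ⟨d, hd.1⟩)
      (MulEquiv.ext fun y => Subtype.ext (by rw [hpow, pow_orderOf_eq_one]; simp)) φ hφ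
      (funext fun y => by rw [Function.comp_apply, hFc, hd.2 _ y.2, hFy])
    exact ⟨y, y.2, fun e' => hy1 (Subtype.ext e'),
      mul_inv_eq_iff_eq_mul.1 (congrArg Subtype.val hy)⟩
  · haveI := Fintype.ofFinite (twoStab G a t)
    have hfib : ∀ η ∈ Finset.univ.image conjφ,
        (Finset.univ.filter fun d => conjφ d = η).card ≤ Nat.card I := by
      intro η hη
      obtain ⟨d₀, -, rfl⟩ := Finset.mem_image.1 hη
      rw [← Fintype.card_subtype, ← Nat.card_eq_fintype_card]
      refine Nat.card_le_card_of_injective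
        (fun d => (⟨(d.1 : G) * (d₀ : G)⁻¹, mul_mem d.1.2 (inv_mem d₀.2), fun y hy => ?_⟩ : I))
        fun d d' e' => Subtype.ext (Subtype.ext (mul_right_cancel (congrArg Subtype.val e' :)))
      have hy' := conj_mem_T h hst ((twoStab G a t).inv_mem d₀.2).1 hy
      rw [show (d₀ : G)⁻¹ * y * (d₀ : G)⁻¹⁻¹ = (d₀ : G)⁻¹ * y * d₀ by group] at hy'
      have := congrFun (congrArg Subtype.val d.2) ⟨_, hy'⟩
      simp only [conjφ, Function.comp_apply, hFc] at this
      rw [show (d₀ : G) * ((d₀ : G)⁻¹ * y * d₀) * (d₀ : G)⁻¹ = y by group] at this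
      rw [← this]
      congr 1
      group
    have hcard : Nat.card (twoStab G a t) ≤ Nat.card I * (Finset.univ.image conjφ).card := by
      rw [Nat.card_eq_fintype_card, ← Finset.card_univ]
      exact Finset.card_le_mul_card_image _ _ hfib
    have hmult' : ∀ d, Nat.card S ≤ mult (conjφ d) := by
      intro d
      refine hSm.trans (le_of_eq ?_)
      have hEq : (mult (conjφ d) : ℂ) = mult φ := by
        rw [← hmult, ← hmult, Cfsg.classInner, Cfsg.classInner, ← (conjT d).toEquiv.sum_comp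
          (fun y => (χ : G → ℂ) y * conj ((φ : T → ℂ) y))]
        congr 1
        refine Finset.sum_congr rfl fun y _ => ?_
        show (χ : G → ℂ) y * _ = (χ : G → ℂ) ((d : G) * y * (d : G)⁻¹) * _
        rw [isClassFunction_irr χ y d]
        rfl
      exact_mod_cast hEq.symm
    calc Nat.card (twoStab G a t) * Nat.card S
        ≤ Nat.card I * (Finset.univ.image conjφ).card * Nat.card S := Nat.mul_le_mul_right _ hcard
      _ = Nat.card I * ∑ η ∈ Finset.univ.image conjφ, Nat.card S := by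
          rw [Finset.sum_const, smul_eq_mul]; ring
      _ ≤ Nat.card I * ∑ η ∈ Finset.univ.image conjφ, mult η * e η := by
          refine Nat.mul_le_mul_left _ (Finset.sum_le_sum fun η hη => ?_)
          obtain ⟨d, -, rfl⟩ := Finset.mem_image.1 hη
          exact (hmult' d).trans (Nat.le_mul_of_pos_right _ (he _))
      _ ≤ n * Nat.card I := by
          rw [mul_comm n, hn']
          exact Nat.mul_le_mul_left _
            (Finset.sum_le_sum_of_subset (Finset.subset_univ _))

end Cfsg.Agent.Lib.BenderSuzuki.TwoGroup
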