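import Cfsg.Agent.Lib.BenderSuzuki.TwoGroup.Local

/-!
# §6: elements of `D` with fixed points on the odd part, and the singular elements of `G_a`
-/

set_option autoImplicit false
set_option linter.unusedSectionVars false
set_option linter.style.haveILetI false

namespace Cfsg.Agent.Lib.BenderSuzuki.TwoGroup

open MulAction Cfsg.Agent.Lib.RankOne.Basic Cfsg.Agent.Lib.RankOne.Involution
open Cfsg.Agent.Lib.RankOne.Nilpotent

universe w z

variable {G : Type w} {Ω : Type z} [Group G] [MulAction G Ω] [Finite G] {a : Ω} {t : G}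
  {Q : Subgroup G}

/-- The elements of `D` commuting with an involution of `G_a`. -/
def fixD (a : Ω) (t : G) : Set G := {d | d ∈ twoStab G a t ∧ ∃ i ∈ invs G a, d * i = i * d}

/-- The elements of even order of `G_a`. -/
def sing (G : Type w) [Group G] [MulAction G Ω] (a : Ω) : Set G :=
  {y | y • a = a ∧ 2 ∣ orderOf y}

variable (hM : MinHyp G Ω a t Q) (hSec : PropSections.{w, z}) {S T : Subgroup G}
  (hst : Split Q S T)

include hM hSec hst in
/-- An element of `D` centralising a non-trivial element of `T` is conjugate in `K` to an element of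
`V` centralising only one involution of `G_a`. -/
theorem exists_single {d : G} (hd : d ∈ twoStab G a t) (hd1 : d ≠ 1) {y : G} (hy : y ∈ T)
    (hy1 : y ≠ 1) (hdy : d * y = y * d) :
    ∃ e ∈ kSet a t, e * d * e⁻¹ ∈ vGrp a t ∧ e * d * e⁻¹ ≠ 1 ∧
      ∀ i ∈ invs G a, ∀ j ∈ invs G a, e * d * e⁻¹ * i = i * (e * d * e⁻¹) →
        e * d * e⁻¹ * j = j * (e * d * e⁻¹) → i = j := by
  have hS := hM.setup
  have hX : ({d} : Set G) ⊆ (twoStab G a t : Set G) := Set.singleton_subset_iff.2 hd
  have hyQ := hst.T_le hy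
  obtain ⟨e, he, hcomm⟩ := conj_into_centralizer_t hS hX ⟨a, t • a, y • (t • a),
    (t_smul_ne hS).symm, fun e' => t_smul_ne hS (by
      rw [← inv_smul_smul y (t • a), ← e', Q_inv_fix hS hyQ]),
    fun e' => hy1 (Q_free hS hyQ (t_smul_ne hS) e'.symm), fun x hx => by
      rw [Set.mem_singleton_iff] at hx
      subst hx
      exact ⟨hd.1, hd.2, by rw [← mul_smul, hdy, mul_smul, (mem_twoStab.1 hd).2]⟩⟩
  have hvD : e * d * e⁻¹ ∈ twoStab G a t :=
    (twoStab G a t).mul_mem ((twoStab G a t).mul_mem he.1 hd) ((twoStab G a t).inv_mem he.1)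
  refine ⟨e, he, ⟨hvD, Subgroup.mem_centralizer_singleton_iff.2 (hcomm d rfl).eq⟩,
    fun h => hd1 (by simpa using h), fun i hi j hj h1 h2 => ?_⟩
  by_contra hne
  obtain ⟨h2grp, -⟩ := hSec G Ω a t Q hM _ hvD (fun h => hd1 (by simpa using h))
    ⟨i, j, hi, hj, hne, h1, h2⟩
  have hy' := conj_mem_T hM.toHyp hst he.1.1 hy
  have hmem : e * y * e⁻¹ ∈ Subgroup.centralizer ({e * d * e⁻¹} : Set G) ⊓ Q :=
    ⟨Subgroup.mem_centralizer_singleton_iff.2 (by
      rw [show e * y * e⁻¹ * (e * d * e⁻¹) = e * (y * d) * e⁻¹ by group, ← hdy]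
      group), hst.T_le hy'⟩
  obtain ⟨k, hk⟩ := orderOf_two_pow h2grp hmem
  have hodd := odd_orderOf_of_mem hst.odd hy'
  have h0 : k = 0 := by
    by_contra h0
    rw [hk] at hodd
    exact Nat.not_even_iff_odd.2 hodd (Nat.even_pow.2 ⟨even_two, h0⟩)
  rw [h0, pow_zero, orderOf_eq_one_iff] at hk
  exact hy1 (by simpa using hk)

include hM hSec hst in
theorem not_centralizes_kSet {d : G} (hd : d ∈ twoStab G a t) (hd1 : d ≠ 1) {y : G} (hy : y ∈ T)
    (hy1 : y ≠ 1) (hdy : d * y = y * d) : ¬ ∀ k ∈ kSet a t, k * d = d * k := by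
  intro hK
  obtain ⟨e, he, hv, -, hone⟩ := exists_single hM hSec hst hd hd1 hy hy1 hdy
  have hev : e * d * e⁻¹ = d := by rw [hK e he, mul_inv_cancel_right]
  rw [hev] at hv hone
  have hker := mem_vKer_of_comm hM.toHyp hv hK
  obtain ⟨s, s', hs, hs', hne⟩ := exists_two_involutions hM.setup hM.twoRank
  exact hne (hone s hs s' hs' (Subgroup.mem_centralizer_iff.1 hker.2 s hs).symm
    (Subgroup.mem_centralizer_iff.1 hker.2 s' hs').symm)

include hM hSec hst in
/-- A subgroup of `D` whose elements of prime order all have fixed points on `T` embeds into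
`V / V₀`. -/
theorem card_inertia_mul_le {I : Subgroup G} (hI : I ≤ twoStab G a t)
    (hfix : ∀ d ∈ I, (orderOf d).Prime → ∃ y ∈ T, y ≠ 1 ∧ d * y = y * d) :
    Nat.card I * Nat.card (vKer a t) ≤ Nat.card (vGrp a t) := by
  have h := hM.toHyp
  have hcent : ∀ x ∈ I, (∀ k ∈ kSet a t, k * x = x * k) → x = 1 := by
    intro x hx hK
    by_contra hx1
    obtain ⟨r, hr, hdvd⟩ := Nat.exists_prime_and_dvd (fun h1 => hx1 (orderOf_eq_one_iff.1 h1))
    obtain ⟨m, hm⟩ := hdvd
    have hm0 : 0 < m := by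
      rcases Nat.eq_zero_or_pos m with rfl | h0
      · have := orderOf_pos x; omega
      · exact h0
    have hord : orderOf (x ^ m) = r := by
      rw [orderOf_pow_of_dvd hm0.ne' (hm ▸ Dvd.intro_left r rfl), hm, Nat.mul_div_cancel _ hm0]
    obtain ⟨y, hy, hy1, hdy⟩ := hfix _ (I.pow_mem hx m) (hord.symm ▸ hr)
    refine not_centralizes_kSet hM hSec hst (hI (I.pow_mem hx m)) (fun e => hr.one_lt.ne' ?_) hy hy1
      hdy fun k hk => (show Commute k x from hK k hk).pow_right m
    rw [← hord, e, orderOf_one]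
  have hinj : Function.Injective fun p : I × kSet a t × ↥(vKer a t) =>
      (⟨(p.1 : G) * ((p.2.1 : G) * p.2.2), (twoStab G a t).mul_mem (hI p.1.2)
        ((twoStab G a t).mul_mem p.2.1.2.1 p.2.2.2.1)⟩ : twoStab G a t) := by
    rintro ⟨⟨i, hi⟩, ⟨k, hk⟩, ⟨w, hw⟩⟩ ⟨⟨i', hi'⟩, ⟨k', hk'⟩, ⟨w', hw'⟩⟩ e
    have e' : i * (k * w) = i' * (k' * w') := congrArg Subtype.val e
    have hC : ∀ l ∈ kSet a t, ∀ m ∈ kSet a t, ∀ u ∈ vKer a t, Commute l (m * u) :=
      fun l hl m hm u hu =>
        (show Commute l m from kSet_comm h hl hm).mul_right (vKer_comm_kSet h hu hl)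
    have h1 : i'⁻¹ * i = 1 := by
      refine hcent _ (I.mul_mem (I.inv_mem hi') hi) fun l hl => ?_
      have : i'⁻¹ * i = k' * w' * (k * w)⁻¹ := by
        rw [eq_mul_inv_iff_mul_eq, mul_assoc, e', inv_mul_cancel_left]
      rw [this]
      exact (hC l hl k' hk' w' hw').mul_right (hC l hl k hk w hw).inv_right
    rw [inv_mul_eq_one] at h1
    subst h1
    have h2 : w * k = w' * k' := by
      rw [← vKer_comm_kSet h hw hk, ← vKer_comm_kSet h hw' hk']
      exact mul_left_cancel e'
    obtain ⟨rfl, rfl⟩ := decomp_unique h.setup.odd_card hk.1 hk'.1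
      ((centralizer_t_iff h.setup).1 (vKer_le h hw)).2
      ((centralizer_t_iff h.setup).1 (vKer_le h hw')).2 hk.2 hk'.2 h2
    rfl
  have := Nat.card_le_card_of_injective _ hinj
  rw [Nat.card_prod, Nat.card_prod, card_twoStab h] at this
  have hK : 0 < Nat.card (kSet a t) := by
    haveI : Nonempty (kSet a t) := ⟨⟨1, (twoStab G a t).one_mem, by simp⟩⟩
    exact Nat.card_pos
  refine Nat.le_of_mul_le_mul_right ?_ hK
  calc Nat.card I * Nat.card (vKer a t) * Nat.card (kSet a t)
      = Nat.card I * (Nat.card (kSet a t) * Nat.card (vKer a t)) := by ring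
    _ ≤ _ := this

theorem card_vGrp_le_fixD {s : G} (hs : s ∈ invs G a)
    (hbase : ∀ d ∈ twoStab G a t, (d ∈ vGrp a t ↔ d * s = s * d)) :
    Nat.card (vGrp a t) ≤ Nat.card (fixD a t) :=
  Nat.card_le_card_of_injective (fun d => ⟨d, d.2.1, s, hs, (hbase _ d.2.1).1 d.2⟩)
    fun _ _ e => Subtype.ext (congrArg Subtype.val e :)

include hM in
theorem single_le_fixD {v : G} (hv : v ∈ vGrp a t) (hv1 : v ≠ 1)
    (hone : ∀ i ∈ invs G a, ∀ j ∈ invs G a, v * i = i * v → v * j = j * v → i = j) :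
    2 * Nat.card (kSet a t) * Nat.card (vKer a t) ≤ Nat.card (fixD a t) := by
  classical
  have h := hM.toHyp
  obtain ⟨s, hs, hbase⟩ := exists_base h
  have hvs : v * s = s * v := (hbase v hv.1).1 hv
  let ε : Bool → G := fun b => if b then v else v⁻¹
  have hεs : ∀ b, Commute (ε b) s := by
    intro b; cases b
    · exact (show Commute v s from hvs).inv_left
    · exact hvs
  have hεi : ∀ b, ∀ i, Commute (ε b) i → Commute v i := by
    intro b i hb; cases b
    · simpa [ε] using (show Commute v⁻¹ i from hb).inv_left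
    · exact hb
  have hεD : ∀ b, ε b ∈ twoStab G a t := by
    intro b; cases b
    · exact (twoStab G a t).inv_mem hv.1
    · exact hv.1
  have hmem : ∀ p : kSet a t × ↥(vKer a t) × Bool,
      (p.1 : G) * (ε p.2.2 * p.2.1) * (p.1 : G)⁻¹ ∈ fixD a t := by
    rintro ⟨⟨k, hk⟩, ⟨w, hw⟩, b⟩
    refine ⟨(twoStab G a t).mul_mem ((twoStab G a t).mul_mem hk.1
      ((twoStab G a t).mul_mem (hεD b) hw.1)) ((twoStab G a t).inv_mem hk.1), k * s * k⁻¹,
      inverted_conj_mem h.setup hs hk.1.1, ?_⟩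
    have hc : Commute (ε b * w) s := (hεs b).mul_left (Subgroup.mem_centralizer_iff.1 hw.2 s hs).symm
    calc k * (ε b * w) * k⁻¹ * (k * s * k⁻¹) = k * (ε b * w * s) * k⁻¹ := by group
      _ = k * (s * (ε b * w)) * k⁻¹ := by rw [hc.eq]
      _ = _ := by group
  have hinj : Function.Injective fun p : kSet a t × ↥(vKer a t) × Bool =>
      (⟨_, hmem p⟩ : fixD a t) := by
    rintro ⟨⟨k, hk⟩, ⟨w, hw⟩, b⟩ ⟨⟨k', hk'⟩, ⟨w', hw'⟩, b'⟩ e
    have e' : k * (ε b * w) * k⁻¹ = k' * (ε b' * w') * k'⁻¹ := congrArg Subtype.val e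
    set j := k'⁻¹ * k with hj
    have hjK : j ∈ kSet a t := kSet_div h hk hk'
    have hi : j * s * j⁻¹ ∈ invs G a := inverted_conj_mem h.setup hs hjK.1.1
    have e'' : j * (ε b * w) * j⁻¹ = ε b' * w' := by
      calc j * (ε b * w) * j⁻¹ = k'⁻¹ * (k * (ε b * w) * k⁻¹) * k' := by rw [hj]; group
        _ = _ := by rw [e']; group
    have hc : Commute (ε b' * w') (j * s * j⁻¹) := by
      rw [← e'']
      exact (Commute.conj_iff j).2
        ((hεs b).mul_left (Subgroup.mem_centralizer_iff.1 hw.2 s hs).symm)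
    have hc' : Commute (ε b') (j * s * j⁻¹) := by
      have := hc.mul_left (show Commute w' (j * s * j⁻¹) from
        (Subgroup.mem_centralizer_iff.1 hw'.2 _ hi).symm).inv_left
      rwa [mul_inv_cancel_right] at this
    have hjs : j * s * j⁻¹ = s := hone _ hi s hs (hεi b' _ hc').eq hvs
    have hj1 : j = 1 := (existsUnique_K h.setup hs hs).unique ⟨hjK, hjs⟩
      ⟨⟨(twoStab G a t).one_mem, by simp⟩, by simp⟩
    rw [hj, inv_mul_eq_one] at hj1
    subst hj1
    have e3 : ε b * w = ε b' * w' := mul_left_cancel (mul_right_cancel e')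
    by_cases hbb : b = b'
    · subst hbb
      obtain rfl := mul_left_cancel e3
      rfl
    · exfalso
      have hvv : v * v ∈ vKer a t := by
        rcases b with _ | _ <;> rcases b' with _ | _ <;>
          simp only [ε, Bool.false_eq_true, if_false, if_true, not_true_eq_false] at hbb e3
        · have : v * v = w * w'⁻¹ := by
            rw [eq_mul_inv_iff_mul_eq, mul_assoc, ← e3, mul_inv_cancel_left]
          rw [this]; exact mul_mem hw (inv_mem hw')
        · have : v * v = w' * w⁻¹ := by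
            rw [eq_mul_inv_iff_mul_eq, mul_assoc, e3, mul_inv_cancel_left]
          rw [this]; exact mul_mem hw' (inv_mem hw)
      obtain ⟨r, hr, hrr, m, hrm⟩ := exists_sqrt h.setup.odd_card
        ((twoStab G a t).mul_mem hv.1 hv.1)
      have : v ∈ vKer a t := by
        have hvr : r = v := eq_of_sq_eq h.setup.odd_card hr hv.1 hrr
        rw [← hvr, hrm]
        exact pow_mem hvv m
      obtain ⟨s₁, s₂, hs₁, hs₂, hne⟩ := exists_two_involutions h.setup h.twoRank
      exact hne (hone s₁ hs₁ s₂ hs₂ (Subgroup.mem_centralizer_iff.1 this.2 s₁ hs₁).symm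
        (Subgroup.mem_centralizer_iff.1 this.2 s₂ hs₂).symm)
  have := Nat.card_le_card_of_injective _ hinj
  rw [Nat.card_prod, Nat.card_prod, Nat.card_eq_fintype_card (α := Bool), Fintype.card_bool] at this
  linarith

include hM in
theorem fixD_mul_le_sing :
    Nat.card (fixD a t) * Nat.card Q ≤ 2 * Nat.card (sing G a) := by
  classical
  have h := hM.toHyp
  have hz : ∀ d : fixD a t, ∃ i ∈ invs G a, (d : G) * i = i * d := fun d => d.2.2
  choose i hi hdi using hz
  let P : fixD a t × Q → Prop := fun p => 2 ∣ orderOf ((p.2 : G) * p.1)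
  let σ : fixD a t × Q → fixD a t × Q := fun p =>
    (p.1, ⟨i p.1 * p.2, Q.mul_mem (involution_central h.setup h.twoRank (hi p.1)).1 p.2.2⟩)
  have hσ : ∀ p, ¬ P p → P (σ p) := by
    intro p hp
    by_contra hp'
    have hc : Commute (i p.1) ((p.2 : G) * p.1) :=
      (show Commute (i p.1) (p.2 : G) from central h (hi p.1) p.2.2).mul_right
        (show Commute (p.1 : G) (i p.1) from hdi p.1).symm
    set y := (p.2 : G) * p.1 with hy
    have hy' : (σ p).2.1 * ((σ p).1 : G) = i p.1 * y := mul_assoc _ _ _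
    simp only [P, hy'] at hp hp'
    have hd := orderOf_invs h (hi p.1)
    have hdvd : orderOf (i p.1) ∣ orderOf (i p.1 * y) * orderOf y := by
      have h1 := (show Commute (i p.1 * y) y⁻¹ from
        (hc.mul_left (Commute.refl y)).inv_right).orderOf_mul_dvd_mul_orderOf
      rwa [mul_inv_cancel_right, orderOf_inv] at h1
    rw [hd, Nat.prime_two.dvd_mul] at hdvd
    exact hdvd.elim hp' hp
  let f : fixD a t × Q → {p // P p} × Bool := fun p =>
    if hp : P p then (⟨p, hp⟩, true) else (⟨σ p, hσ p hp⟩, false)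
  have hf : Function.Injective f := by
    intro p p' e
    by_cases hp : P p <;> by_cases hp' : P p' <;> simp only [f, hp, hp', dite_true, dite_false,
      Prod.mk.injEq, Subtype.mk.injEq, Bool.true_eq_false, Bool.false_eq_true, and_false,
      and_true] at e
    · exact e
    · obtain ⟨d, q⟩ := p
      obtain ⟨d', q'⟩ := p'
      simp only [σ, Prod.mk.injEq, Subtype.mk.injEq] at e
      obtain ⟨rfl, e⟩ := e
      exact Prod.ext rfl (Subtype.ext (mul_left_cancel e))
  have h1 := Nat.card_le_card_of_injective f hf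
  have h2 : Nat.card {p // P p} ≤ Nat.card (sing G a) := by
    refine Nat.card_le_card_of_injective (fun p => ⟨(p.1.2 : G) * p.1.1, ?_, p.2⟩) ?_
    · rw [mul_smul, show (p.1.1 : G) • a = a from p.1.1.2.1.1, Q_fix h.setup p.1.2.2]
    · rintro ⟨⟨⟨d, hd⟩, ⟨q, hq⟩⟩, _⟩ ⟨⟨⟨d', hd'⟩, ⟨q', hq'⟩⟩, _⟩ e
      obtain ⟨rfl, rfl⟩ := Q_D_unique h.setup hq hq' hd.1 hd'.1 (congrArg Subtype.val e :)
      rfl
  rw [Nat.card_prod, Nat.card_prod, Nat.card_eq_fintype_card (α := Bool), Fintype.card_bool] at h1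
  omega

end Cfsg.Agent.Lib.BenderSuzuki.TwoGroup
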