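import Cfsg.Agent.Lib.BenderSuzuki.Interface
import Cfsg.Agent.Lib.BenderSuzuki.TwoGroup.CardAction
import Cfsg.Agent.Lib.FTDeps.RankOneCore
import Cfsg.Agent.Lib.PSolvable.Basic
import Cfsg.Agent.Lib.OddOrder.FeitThompson
import Cfsg.Agent.Lib.Transfer.Frobenius
import Cfsg.Agent.S1127
import Cfsg.Agent.S1128
import Cfsg.Agent.S1131

/-!
# §6: group-theoretic facts

The two-group part and the odd part of `Q`, centralisers in the point stabiliser, the orders of `D`,
`V`, `C(s)`, and the elements of `D` fixing an involution.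
-/

set_option autoImplicit false
set_option linter.unusedSectionVars false
set_option linter.style.haveILetI false

namespace Cfsg.Agent.Lib.BenderSuzuki.TwoGroup

open MulAction Cfsg.Agent.Lib.RankOne.Basic Cfsg.Agent.Lib.RankOne.Involution
open Cfsg.Agent.Lib.RankOne.Nilpotent

universe w z

variable {G : Type w} {Ω : Type z} [Group G] [MulAction G Ω] [Finite G] {a : Ω} {t : G}
  {Q : Subgroup G}

/-- The split of the nilpotent group `Q`. -/
structure Split (Q S T : Subgroup G) : Prop where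
  S_le : S ≤ Q
  T_le : T ≤ Q
  two : IsPGroup 2 S
  odd : Odd (Nat.card T)
  comm : ∀ x ∈ S, ∀ y ∈ T, x * y = y * x
  bij : Function.Bijective fun p : S × T => (⟨(p.1 : G) * p.2, Q.mul_mem (S_le p.1.2) (T_le p.2.2)⟩ : Q)
  mem_T : ∀ x ∈ Q, Odd (orderOf x) → x ∈ T

theorem orderOf_two_pow {S : Subgroup G} (hS2 : IsPGroup 2 S) {x : G} (hx : x ∈ S) :
    ∃ k : ℕ, orderOf x = 2 ^ k := by
  haveI : Fact (Nat.Prime 2) := ⟨Nat.prime_two⟩
  obtain ⟨k, hk⟩ := (IsPGroup.iff_orderOf.mp hS2) ⟨x, hx⟩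
  exact ⟨k, by rw [← hk, Subgroup.orderOf_mk]⟩

theorem odd_orderOf_of_mem {T : Subgroup G} (hT : Odd (Nat.card T)) {x : G} (hx : x ∈ T) :
    Odd (orderOf x) := by
  rw [← Subgroup.orderOf_mk x hx]
  exact hT.of_dvd_nat (orderOf_dvd_natCard _)

theorem exists_split (h : Hyp G Ω a t Q) : ∃ S T : Subgroup G, Split Q S T := by
  classical
  haveI : Fact (Nat.Prime 2) := ⟨Nat.prime_two⟩
  haveI hnil := nilpotent h.setup h.twoRank
  obtain ⟨S₀⟩ : Nonempty (Sylow 2 Q) := inferInstance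
  haveI : (S₀ : Subgroup Q).Normal :=
    (((Group.isNilpotent_of_finite_tfae (G := Q)).out 0 3 :
      Group.IsNilpotent Q ↔ ∀ (p : ℕ), Fact (Nat.Prime p) → ∀ (P : Sylow p Q), (P : Subgroup Q).Normal)).mp
        hnil 2 ⟨Nat.prime_two⟩ S₀
  have hcop : (Nat.card (S₀ : Subgroup Q)).Coprime (S₀ : Subgroup Q).index := by
    obtain ⟨k, hk⟩ := IsPGroup.iff_card.1 S₀.isPGroup'
    rw [hk]
    exact Nat.Coprime.pow_left k
      ((Nat.Prime.coprime_iff_not_dvd Nat.prime_two).2 S₀.not_dvd_index)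
  obtain ⟨C, hC⟩ := Subgroup.exists_right_complement'_of_coprime hcop
  have hCcard : Nat.card C = (S₀ : Subgroup Q).index := hC.symm.index_eq_card.symm
  have hCodd : Odd (Nat.card C) := by
    rw [hCcard, Nat.odd_iff, ← Nat.two_dvd_ne_zero]
    exact S₀.not_dvd_index
  have hcomm : ∀ x ∈ (S₀ : Subgroup Q), ∀ y ∈ C, x * y = y * x := by
    intro x hx y hy
    refine Transfer.Frobenius.commute_of_coprime_of_isNilpotent ?_
    obtain ⟨k, hk⟩ := orderOf_two_pow S₀.isPGroup' hx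
    rw [hk]
    exact Nat.Coprime.pow_left k ((Nat.coprime_two_left).2 (odd_orderOf_of_mem hCodd hy))
  refine ⟨(S₀ : Subgroup Q).map Q.subtype, C.map Q.subtype, Subgroup.map_subtype_le _,
    Subgroup.map_subtype_le _, S₀.isPGroup'.map _, ?_, ?_, ?_, ?_⟩
  · rwa [Subgroup.card_subtype]
  · rintro _ ⟨x, hx, rfl⟩ _ ⟨y, hy, rfl⟩
    exact congrArg Subtype.val (hcomm x hx y hy)
  · refine ⟨fun p p' e => ?_, fun q => ?_⟩
    · obtain ⟨⟨_, x, hx, rfl⟩, ⟨_, y, hy, rfl⟩⟩ := p
      obtain ⟨⟨_, x', hx', rfl⟩, ⟨_, y', hy', rfl⟩⟩ := p'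
      have e' : x * y = x' * y' := Subtype.ext (congrArg Subtype.val e :)
      have := hC.1 (a₁ := (⟨x, hx⟩, ⟨y, hy⟩)) (a₂ := (⟨x', hx'⟩, ⟨y', hy'⟩)) e'
      simp only [Prod.mk.injEq, Subtype.mk.injEq] at this
      obtain ⟨rfl, rfl⟩ := this
      rfl
    · obtain ⟨⟨⟨x, hx⟩, ⟨y, hy⟩⟩, hxy⟩ := hC.2 q
      exact ⟨(⟨_, Subgroup.mem_map_of_mem _ hx⟩, ⟨_, Subgroup.mem_map_of_mem _ hy⟩),
        Subtype.ext (congrArg Subtype.val hxy :)⟩
  · intro g hg hodd
    obtain ⟨⟨⟨x, hx⟩, ⟨y, hy⟩⟩, hxy⟩ := hC.2 ⟨g, hg⟩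
    simp only at hxy
    refine ⟨⟨g, hg⟩, ?_, rfl⟩
    have hxy' : x = ⟨g, hg⟩ * y⁻¹ := by rw [← hxy]; group
    have hodd' : Odd (orderOf x) := by
      refine Odd.of_dvd_nat (hodd.mul (odd_orderOf_of_mem hCodd (inv_mem hy))) ?_
      rw [hxy', ← Subgroup.orderOf_mk g hg]
      refine Commute.orderOf_mul_dvd_mul_orderOf ?_
      show (⟨g, hg⟩ : Q) * y⁻¹ = y⁻¹ * ⟨g, hg⟩
      rw [← hxy]
      calc x * y * y⁻¹ = x := by group
        _ = y⁻¹ * (y * x) := by group
        _ = y⁻¹ * (x * y) := by rw [hcomm x hx y hy]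
    obtain ⟨k, hk⟩ := orderOf_two_pow S₀.isPGroup' hx
    rw [hk] at hodd'
    have hk0 : k = 0 := by
      by_contra hk0
      exact (Nat.not_even_iff_odd.2 hodd') ((Nat.even_pow).2 ⟨even_two, hk0⟩)
    rw [hk0, pow_zero, orderOf_eq_one_iff] at hk
    rw [← hxy, hk, one_mul]
    exact hy

theorem Split.card {S T : Subgroup G} (hst : Split Q S T) :
    Nat.card Q = Nat.card S * Nat.card T := by
  rw [← Nat.card_eq_of_bijective _ hst.bij, Nat.card_prod]

theorem Split.ne_bot {S T : Subgroup G} (hst : Split Q S T) (hQ : ¬ IsPGroup 2 Q) : T ≠ ⊥ := by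
  intro h
  refine hQ fun q => ?_
  obtain ⟨⟨⟨x, hx⟩, ⟨y, hy⟩⟩, hxy⟩ := hst.bij.2 q
  have hy1 : y = 1 := by rwa [h, Subgroup.mem_bot] at hy
  obtain ⟨k, hk⟩ := hst.two ⟨x, hx⟩
  refine ⟨k, ?_⟩
  rw [← hxy]
  refine Subtype.ext ?_
  rw [SubgroupClass.coe_pow]
  show (x * y) ^ 2 ^ k = 1
  rw [hy1, mul_one]
  exact congrArg Subtype.val hk

variable (h : Hyp G Ω a t Q) {S T : Subgroup G} (hst : Split Q S T)

include h

theorem sing_fix {y : G} (hy : 2 ∣ orderOf y) (hya : y • a = a) {c : Ω} (hc : y • c = c) :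
    c = a := by
  obtain ⟨m, hm⟩ := hy
  have hpos := orderOf_pos y
  have hs : y ^ m ∈ invs G a := by
    refine ⟨(stabilizer G a).pow_mem hya m, fun e => ?_, ?_⟩
    · have := Nat.le_of_dvd (by omega) (orderOf_dvd_of_pow_eq_one e)
      omega
    · rw [← pow_add, ← two_mul, ← hm, pow_orderOf_eq_one]
  exact involution_fix_a h.setup hs (smul_pow_fixed hc m)
where
  smul_pow_fixed {y : G} {c : Ω} (hc : y • c = c) : ∀ m : ℕ, y ^ m • c = c
    | 0 => by rw [pow_zero, one_smul]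
    | m + 1 => by rw [pow_succ, mul_smul, hc, smul_pow_fixed hc m]

theorem sing_conj {y v : G} (hy : 2 ∣ orderOf y) (hya : y • a = a)
    (hv : (v * y * v⁻¹) • a = a) : v • a = a := by
  have hc : v⁻¹ • a = a := sing_fix h hy hya (by
    conv_rhs => rw [← hv]
    rw [mul_smul, mul_smul, inv_smul_smul])
  rw [← inv_smul_eq_iff.1 hc]

theorem centralizer_le_stab {y : G} (hy : 2 ∣ orderOf y) (hya : y • a = a) :
    Subgroup.centralizer ({y} : Set G) ≤ stabilizer G a := by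
  intro v hv
  refine sing_conj h hy hya ?_
  rw [mul_inv_eq_iff_eq_mul.2 (Subgroup.mem_centralizer_singleton_iff.1 hv), hya]

theorem isSolvable_stab : Group.IsSolvable (stabilizer G a) := by
  haveI : Group.IsSolvable Q := haveI := nilpotent h.setup h.twoRank; inferInstance
  haveI : Group.IsSolvable (twoStab G a t) :=
    OddOrder.FeitThompson.isSolvable_of_odd_card h.setup.odd_card
  set N := Q.subgroupOf (stabilizer G a)
  haveI : N.Normal := ⟨fun x hx y => h.setup.conj_mem y y.2 x hx⟩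
  have hsurj : Function.Surjective ((QuotientGroup.mk' N).comp
      (Subgroup.inclusion (show twoStab G a t ≤ stabilizer G a from inf_le_left))) := by
    intro x
    obtain ⟨⟨g, hg⟩, rfl⟩ := QuotientGroup.mk'_surjective N x
    obtain ⟨q, hq, d, hd, rfl⟩ := exists_Q_D h.setup hg
    refine ⟨⟨d, hd⟩, ?_⟩
    rw [MonoidHom.comp_apply, QuotientGroup.mk'_eq_mk']
    refine ⟨⟨d⁻¹ * q * d, (stabilizer G a).mul_mem ((stabilizer G a).mul_mem
      ((stabilizer G a).inv_mem hd.1) (h.setup.le hq)) hd.1⟩, twoStab_norm' h.setup hd hq,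
      Subtype.ext ?_⟩
    show d * (d⁻¹ * q * d) = q * d
    group
  haveI : Group.IsSolvable (stabilizer G a ⧸ N) := Group.isSolvable_of_surjective hsurj
  haveI : Group.IsSolvable N :=
    solvable_of_solvable_injective (f := (Subgroup.subgroupOfEquivOfLe h.setup.le).toMonoidHom)
      (Subgroup.subgroupOfEquivOfLe h.setup.le).injective
  exact Group.isSolvable_of_ker_le_range N.subtype (QuotientGroup.mk' N)
    (by rw [QuotientGroup.ker_mk', Subgroup.range_subtype])

theorem pSolvable_centralizer {y : G} (hy : 2 ∣ orderOf y) (hya : y • a = a) :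
    Cfsg.IsPSolvable 2 (Subgroup.centralizer ({y} : Set G)) := by
  haveI : Fact (Nat.Prime 2) := ⟨Nat.prime_two⟩
  haveI := isSolvable_stab h
  haveI : Group.IsSolvable (Subgroup.centralizer ({y} : Set G)) :=
    solvable_of_solvable_injective (f := Subgroup.inclusion (centralizer_le_stab h hy hya))
      (Subgroup.inclusion_injective _)
  exact PSolvable.isPSolvable_of_isSolvable

theorem central {i : G} (hi : i ∈ invs G a) {x : G} (hx : x ∈ Q) : i * x = x * i :=
  (involution_central h.setup h.twoRank hi).2 x hx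

theorem orderOf_invs {i : G} (hi : i ∈ invs G a) : orderOf i = 2 :=
  orderOf_eq_prime (by rw [pow_two, hi.2.2]) hi.2.1

/-! ### Counting -/

theorem qNum_eq : qNum G a = Nat.card (kSet a t) + 1 := by
  rw [qNum, card_invertedBy h.setup]

theorem qNum_pow : ∃ n : ℕ, 2 ≤ n ∧ qNum G a = 2 ^ n := by
  obtain ⟨n, -, hn⟩ := FTDeps.RankOneCore.exists_card_invSub h.setup h.twoRank
  have hcard : qNum G a = Nat.card ↥(FTDeps.RankOneCore.invSub h.setup h.twoRank) := by
    classical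
    rw [qNum, ← Finite.card_option]
    refine Nat.card_eq_of_bijective (fun o => o.elim 1 fun s =>
      ⟨s, FTDeps.RankOneCore.inv_mem_invSub h.setup h.twoRank s.2⟩) ⟨?_, ?_⟩
    · rintro (_ | s) (_ | s') e
      · rfl
      · exact absurd (congrArg Subtype.val e :).symm s'.2.2.1
      · exact absurd (congrArg Subtype.val e :) s.2.2.1
      · exact congrArg some (Subtype.ext (congrArg Subtype.val e :))
    · intro x
      by_cases hx : x = 1
      · exact ⟨none, hx.symm⟩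
      · exact ⟨some ⟨x, FTDeps.RankOneCore.invol_of_ne_one h.setup h.twoRank hx⟩, rfl⟩
  obtain ⟨s, s', hs, hs', hne⟩ := exists_two_involutions h.setup h.twoRank
  have h2 : 2 ≤ Nat.card (invs G a) :=
    Finite.one_lt_card_iff_nontrivial.2 ⟨⟨s, hs⟩, ⟨s', hs'⟩, fun e => hne (congrArg Subtype.val e)⟩
  refine ⟨n, ?_, hcard.trans hn⟩
  by_contra hlt
  have := hcard.trans hn
  rw [qNum] at this
  interval_cases n <;> omega

include hst in
theorem invs_mem_S {i : G} (hi : i ∈ invs G a) : i ∈ S := by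
  obtain ⟨⟨⟨x, hx⟩, ⟨y, hy⟩⟩, hxy⟩ :=
    hst.bij.2 ⟨i, (involution_central h.setup h.twoRank hi).1⟩
  have hxy' : x * y = i := congrArg Subtype.val hxy
  obtain ⟨k, hk⟩ := orderOf_two_pow hst.two hx
  have hy1 : y ^ 2 ^ (k + 1) = 1 := by
    have h1 : (x * y) ^ 2 ^ (k + 1) = 1 := by
      rw [hxy', pow_succ', pow_mul, pow_two, hi.2.2, one_pow]
    have hx1 : x ^ 2 ^ (k + 1) = 1 :=
      orderOf_dvd_iff_pow_eq_one.1 (hk.symm ▸ pow_dvd_pow 2 k.le_succ)
    rwa [(show Commute x y from hst.comm x hx y hy).mul_pow, hx1, one_mul] at h1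
  have hy0 : y = 1 := by
    rw [← orderOf_eq_one_iff]
    exact Nat.eq_one_of_dvd_coprimes
      (Nat.Coprime.pow_left (k + 1) (Nat.coprime_two_left.2 (odd_orderOf_of_mem hst.odd hy)))
      (orderOf_dvd_of_pow_eq_one hy1) dvd_rfl
  rw [← hxy', hy0, mul_one]
  exact hx

include hst in
theorem qNum_le_card : qNum G a ≤ Nat.card S := by
  classical
  rw [qNum, ← Finite.card_option]
  refine Nat.card_le_card_of_injective (fun o => o.elim 1 fun s => ⟨s, invs_mem_S h hst s.2⟩) ?_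
  rintro (_ | s) (_ | s') e
  · rfl
  · exact absurd (congrArg Subtype.val e :).symm s'.2.2.1
  · exact absurd (congrArg Subtype.val e :) s.2.2.1
  · exact congrArg some (Subtype.ext (congrArg Subtype.val e :))

include hst in
theorem conj_mem_T {g y : G} (hg : g • a = a) (hy : y ∈ T) : g * y * g⁻¹ ∈ T :=
  hst.mem_T _ (h.setup.conj_mem g hg y (hst.T_le hy))
    (by rw [← MulAut.conj_apply, MulEquiv.orderOf_eq (MulAut.conj g) y]; exact odd_orderOf_of_mem hst.odd hy)

theorem kSet_comm {k l : G} (hk : k ∈ kSet a t) (hl : l ∈ kSet a t) : k * l = l * k := by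
  haveI := h.faithful
  obtain ⟨C, hC, hcyc, -⟩ := Cfsg.Agent.S1131.result h.setup h.twoRank
  have hk' : k ∈ C := by rwa [← SetLike.mem_coe, hC]
  have hl' : l ∈ C := by rwa [← SetLike.mem_coe, hC]
  letI := IsCyclic.commGroup (α := C)
  exact congrArg Subtype.val (mul_comm (⟨k, hk'⟩ : C) ⟨l, hl'⟩)

theorem kSet_div {k l : G} (hk : k ∈ kSet a t) (hl : l ∈ kSet a t) : l⁻¹ * k ∈ kSet a t := by
  haveI := h.faithful
  obtain ⟨C, hC, -, -⟩ := Cfsg.Agent.S1131.result h.setup h.twoRank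
  have hk' : k ∈ C := by rwa [← SetLike.mem_coe, hC]
  have hl' : l ∈ C := by rwa [← SetLike.mem_coe, hC]
  have := mul_mem (inv_mem hl') hk'
  rwa [← SetLike.mem_coe, hC] at this

include hst in
theorem card_T_ge (hT : T ≠ ⊥) : 2 * qNum G a ≤ Nat.card T + 1 := by
  classical
  haveI := h.faithful
  obtain ⟨y, hy, hy1⟩ := (Subgroup.ne_bot_iff_exists_ne_one).1 hT |>.elim
    (fun x hx => (⟨x.1, x.2, fun e => hx (Subtype.ext e)⟩ : ∃ y, y ∈ T ∧ y ≠ 1))
  have key : ∀ k ∈ kSet a t, ∀ x ∈ T, x ≠ 1 → k * x * k⁻¹ = x → k = 1 := by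
    intro k hk x hx hx1 e
    by_contra hk1
    have h1 := Cfsg.Agent.S1128.result h.setup h.twoRank k hk hk1
    refine hx1 (Subgroup.mem_bot.1 (h1 ▸ Subgroup.mem_inf.2 ⟨hst.T_le hx, ?_⟩))
    exact Subgroup.mem_centralizer_singleton_iff.2 (mul_inv_eq_iff_eq_mul.1 e).symm
  have hf : ∀ p : kSet a t × Bool, (p.1 : G) * (if p.2 then y else y⁻¹) * (p.1 : G)⁻¹ ∈ T :=
    fun p => conj_mem_T h hst p.1.2.1.1 (by split <;> [exact hy; exact inv_mem hy])
  have hyinv : y⁻¹ ≠ y := fun e => hy1 (by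
    have h2 : orderOf y ∣ 2 := orderOf_dvd_of_pow_eq_one (by rw [pow_two]; nth_rewrite 1 [← e]; exact inv_mul_cancel y)
    rw [← orderOf_eq_one_iff]
    exact Nat.eq_one_of_dvd_coprimes (Nat.coprime_two_left.2 (odd_orderOf_of_mem hst.odd hy)) h2 dvd_rfl)
  have hinj : Function.Injective fun o : Option (kSet a t × Bool) =>
      o.elim (1 : T) fun p => ⟨_, hf p⟩ := by
    rintro (_ | p) (_ | p') e
    · rfl
    · exfalso
      have e' : (p'.1 : G) * (if p'.2 then y else y⁻¹) * (p'.1 : G)⁻¹ = 1 := (congrArg Subtype.val e :).symm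
      simp at e'
      exact hy1 (by split at e' <;> simpa using e')
    · exfalso
      have e' : (p.1 : G) * (if p.2 then y else y⁻¹) * (p.1 : G)⁻¹ = 1 := (congrArg Subtype.val e :)
      simp at e'
      exact hy1 (by split at e' <;> simpa using e')
    · obtain ⟨k, b⟩ := p
      obtain ⟨l, b'⟩ := p'
      have e' : (k : G) * (if b then y else y⁻¹) * (k : G)⁻¹ =
          (l : G) * (if b' then y else y⁻¹) * (l : G)⁻¹ := congrArg Subtype.val e
      set j := (l : G)⁻¹ * k with hj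
      have hjK : j ∈ kSet a t := kSet_div h k.2 l.2
      have e'' : j * (if b then y else y⁻¹) * j⁻¹ = if b' then y else y⁻¹ := by
        rw [hj, show (l : G)⁻¹ * k * (if b then y else y⁻¹) * ((l : G)⁻¹ * k)⁻¹ =
          (l : G)⁻¹ * ((k : G) * (if b then y else y⁻¹) * (k : G)⁻¹) * l by group, e']
        group
      have hj1 : j = 1 → k = l := fun hj1 => Subtype.ext (inv_mul_eq_one.1 hj1).symm
      by_cases hbb : b = b'
      · subst hbb
        have := key j hjK (if b then y else y⁻¹) (by split <;> [exact hy; exact inv_mem hy])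
          (by split <;> simp [hy1]) e''
        rw [hj1 this]
      · exfalso
        have hjy : j * y * j⁻¹ = y⁻¹ := by
          rcases b with _ | _ <;> rcases b' with _ | _ <;>
            simp only [Bool.false_eq_true, if_false, if_true, not_true_eq_false] at hbb e''
          · calc j * y * j⁻¹ = (j * y⁻¹ * j⁻¹)⁻¹ := by group
              _ = y⁻¹ := by rw [e'']
          · exact e''
        have hj2 : j * j * y * (j * j)⁻¹ = y := by
          rw [show j * j * y * (j * j)⁻¹ = j * (j * y * j⁻¹) * j⁻¹ by group, hjy,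
            ← conj_inv, hjy, inv_inv]
        have hjj : j * j ∈ kSet a t := by
          refine ⟨(twoStab G a t).mul_mem hjK.1 hjK.1, ?_⟩
          rw [show t * (j * j) * t⁻¹ = (t * j * t⁻¹) * (t * j * t⁻¹) by group,
            show t * j * t⁻¹ = j⁻¹ from hjK.2]
          group
        have hj1' : j = 1 := eq_one_of_sq h.setup.odd_card hjK.1 (key _ hjj y hy hy1 hj2)
        rw [hj1', one_mul, inv_one, mul_one] at hjy
        exact hyinv hjy.symm
  have := Nat.card_le_card_of_injective _ hinj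
  rw [Finite.card_option, Nat.card_prod, Nat.card_eq_fintype_card (α := Bool), Fintype.card_bool] at this
  rw [qNum_eq h]
  omega

theorem card_twoStab :
    Nat.card (twoStab G a t) = Nat.card (vGrp a t) * Nat.card (kSet a t) := by
  rw [← Nat.card_prod]
  refine (Nat.card_eq_of_bijective (fun p : ↥(vGrp a t) × kSet a t =>
    (⟨(p.1 : G) * p.2, (twoStab G a t).mul_mem p.1.2.1 p.2.2.1⟩ : twoStab G a t)) ⟨?_, ?_⟩).symm
  · rintro ⟨⟨c, hc⟩, ⟨k, hk⟩⟩ ⟨⟨c', hc'⟩, ⟨k', hk'⟩⟩ e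
    obtain ⟨h1, h2⟩ := decomp_unique h.setup.odd_card hk.1 hk'.1
      ((centralizer_t_iff h.setup).1 hc).2 ((centralizer_t_iff h.setup).1 hc').2 hk.2 hk'.2
      (congrArg Subtype.val e :)
    subst h1
    subst h2
    rfl
  · rintro ⟨d, hd⟩
    obtain ⟨c, hc, k, hk, hct, rfl⟩ := exists_CK h.setup hd
    exact ⟨(⟨c, (centralizer_t_iff h.setup).2 ⟨hc, hct⟩⟩, ⟨k, hk⟩), rfl⟩

theorem vKer_le : vKer a t ≤ vGrp a t := fun d hd =>
  (centralizer_t_iff h.setup).2 ⟨hd.1,
    (FTDeps.RankOneCore.kernel_fixed h.setup h.twoRank hd.1 hd.2).1⟩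

theorem mem_vKer_of_comm {v : G} (hv : v ∈ vGrp a t) (hk : ∀ k ∈ kSet a t, k * v = v * k) :
    v ∈ vKer a t := by
  have h' : v ∈ twoStab G a t ⊓ Subgroup.centralizer {t} ⊓
      Subgroup.centralizer (Cfsg.invertedBy (twoStab G a t) t) :=
    ⟨hv, Subgroup.mem_centralizer_iff.2 hk⟩
  rwa [(Cfsg.Agent.S1127.result h.setup).2] at h'

theorem vKer_comm_kSet {v : G} (hv : v ∈ vKer a t) {k : G} (hk : k ∈ kSet a t) : k * v = v * k :=
  (FTDeps.RankOneCore.kernel_fixed h.setup h.twoRank hv.1 hv.2).2 k hk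

/-- The involution of `G_a` fixed by `V`. -/
theorem exists_base : ∃ s ∈ invs G a,
    ∀ d ∈ twoStab G a t, (d ∈ vGrp a t ↔ d * s = s * d) := by
  obtain ⟨⟨s, r⟩, ⟨hs, hr, hsr⟩, -⟩ := structure_equation h.setup
  refine ⟨s, hs, fun d hd => ?_⟩
  rw [centralizer_t_iff h.setup, centralizer_t_eq h.setup hs hr hsr hd, mul_inv_eq_iff_eq_mul]
  exact and_iff_right hd

theorem card_vGrp_le {s : G} (hs : s ∈ invs G a)
    (hbase : ∀ d ∈ twoStab G a t, (d ∈ vGrp a t ↔ d * s = s * d)) {n : ℕ}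
    (hn : qNum G a = 2 ^ n) : Nat.card (vGrp a t) ≤ n * Nat.card (vKer a t) := by
  classical
  haveI := h.faithful
  obtain ⟨C, hC, hcyc, hCn⟩ := Cfsg.Agent.S1131.result h.setup h.twoRank
  have hCk : ∀ k, k ∈ C ↔ k ∈ kSet a t := fun k => by rw [← SetLike.mem_coe, hC]
  set Z := FTDeps.RankOneCore.invSub h.setup h.twoRank
  let φ := FTDeps.RankOneCore.conjHom h.setup h.twoRank
  have hCD : C ≤ twoStab G a t := fun k hk => ((hCk k).1 hk).1
  let L : Subgroup (MulAut Z) := (φ.comp (Subgroup.inclusion hCD)).range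
  let ρ : ↥(vGrp a t) →* MulAut Z := φ.comp (Subgroup.inclusion inf_le_left)
  have hZcard : Nat.card Z = 2 ^ n := by
    rw [← hn, qNum]
    obtain ⟨m, hm⟩ : ∃ m, Nat.card Z = m := ⟨_, rfl⟩
    rw [← Finite.card_option]
    refine (Nat.card_eq_of_bijective (fun o : Option (invs G a) => o.elim (1 : Z) fun i =>
      ⟨i, FTDeps.RankOneCore.inv_mem_invSub h.setup h.twoRank i.2⟩) ⟨?_, ?_⟩).symm
    · rintro (_ | i) (_ | i') e
      · rfl
      · exact absurd (congrArg Subtype.val e :).symm i'.2.2.1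
      · exact absurd (congrArg Subtype.val e :) i.2.2.1
      · exact congrArg some (Subtype.ext (congrArg Subtype.val e :))
    · intro x
      by_cases hx : x = 1
      · exact ⟨none, hx.symm⟩
      · exact ⟨some ⟨x, FTDeps.RankOneCore.invol_of_ne_one h.setup h.twoRank hx⟩, rfl⟩
  obtain ⟨m, hm2, hm⟩ := qNum_pow h
  have hn0 : n ≠ 0 := by
    rintro rfl
    rw [hn] at hm
    have := Nat.pow_right_injective le_rfl hm
    omega
  have key : Nat.card ρ.range ≤ n := by
    refine card_range_le hn0 hZcard (fun x => Subtype.ext x.2.2) L ?_ ?_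
      (a₀ := ⟨s, FTDeps.RankOneCore.inv_mem_invSub h.setup h.twoRank hs⟩)
      (fun e => hs.2.1 (congrArg Subtype.val e)) ρ ?_ ?_
    · rintro _ ⟨k, rfl⟩ _ ⟨l, rfl⟩
      rw [← map_mul, ← map_mul]
      exact congrArg _ (Subtype.ext (kSet_comm h ((hCk _).1 k.2) ((hCk _).1 l.2)))
    · intro x y hx hy
      obtain ⟨k, ⟨hk, hkx⟩, -⟩ := existsUnique_K h.setup
        (FTDeps.RankOneCore.invol_of_ne_one h.setup h.twoRank hx)
        (FTDeps.RankOneCore.invol_of_ne_one h.setup h.twoRank hy)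
      exact ⟨_, ⟨⟨k, (hCk k).2 hk⟩, rfl⟩, Subtype.ext hkx⟩
    · intro c
      exact Subtype.ext (mul_inv_eq_iff_eq_mul.2 ((hbase c c.2.1).1 c.2))
    · rintro c _ ⟨k, rfl⟩
      refine ⟨⟨(c : G) * k * (c : G)⁻¹, hCn c c.2.1 k k.2⟩, ?_⟩
      show φ _ = φ (Subgroup.inclusion inf_le_left c) * φ (Subgroup.inclusion hCD k) *
        (φ (Subgroup.inclusion inf_le_left c))⁻¹
      rw [← map_inv φ, ← map_mul φ, ← map_mul φ]
      exact congrArg φ (Subtype.ext rfl)
  have hker : ρ.ker = (vKer a t).subgroupOf (vGrp a t) := by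
    ext c
    rw [MonoidHom.mem_ker, Subgroup.mem_subgroupOf, Subgroup.mem_inf]
    exact (FTDeps.RankOneCore.conjHom_eq_one_iff h.setup h.twoRank).trans (and_iff_right c.2.1).symm
  calc Nat.card (vGrp a t) = Nat.card ρ.range * Nat.card ρ.ker := by
        rw [← Subgroup.index_ker, mul_comm, Subgroup.card_mul_index]
    _ ≤ n * Nat.card (vKer a t) := by
        rw [hker, Nat.card_congr (Subgroup.subgroupOfEquivOfLe (vKer_le h)).toEquiv]
        exact Nat.mul_le_mul_right _ key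

theorem card_centralizer_base {s : G} (hs : s ∈ invs G a)
    (hbase : ∀ d ∈ twoStab G a t, (d ∈ vGrp a t ↔ d * s = s * d)) :
    Nat.card (Subgroup.centralizer ({s} : Set G)) = Nat.card Q * Nat.card (vGrp a t) := by
  rw [← Nat.card_prod]
  refine (Nat.card_eq_of_bijective (fun p : Q × ↥(vGrp a t) =>
    (⟨(p.1 : G) * p.2, Subgroup.mem_centralizer_singleton_iff.2 ?_⟩ :
      Subgroup.centralizer ({s} : Set G))) ⟨?_, ?_⟩).symm
  · have h1 := (central h hs p.1.2).symm
    have h2 := (hbase _ p.2.2.1).1 p.2.2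
    rw [mul_assoc, h2, ← mul_assoc, h1, mul_assoc]
  · rintro ⟨⟨q, hq⟩, ⟨v, hv⟩⟩ ⟨⟨q', hq'⟩, ⟨v', hv'⟩⟩ e
    obtain ⟨h1, h2⟩ := Q_D_unique h.setup hq hq' hv.1 hv'.1 (congrArg Subtype.val e :)
    subst h1
    subst h2
    rfl
  · rintro ⟨g, hg⟩
    have hga := centralizer_le_stab h (by rw [orderOf_invs h hs]) hs.1 hg
    obtain ⟨q, hq, d, hd, rfl⟩ := exists_Q_D h.setup hga
    have hg' := Subgroup.mem_centralizer_singleton_iff.1 hg
    refine ⟨(⟨q, hq⟩, ⟨d, (hbase d hd).2 ?_⟩), rfl⟩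
    refine mul_left_cancel (a := q) ?_
    rw [← mul_assoc, hg', ← mul_assoc, central h hs hq, mul_assoc]

end Cfsg.Agent.Lib.BenderSuzuki.TwoGroup
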