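import Cfsg.Agent.Lib.BenderSuzuki.TwoGroup.Degree
import Cfsg.Agent.Lib.BenderSuzuki.TwoGroup.Fusion
import Cfsg.Agent.Lib.H80.ClassMult

/-!
# §6: the character sums

`avgSing χ` is the sum of `χ` over the elements of even order of `G_a`, divided by `|G_a|`.
-/

set_option autoImplicit false
set_option linter.unusedSectionVars false
set_option linter.style.haveILetI false

namespace Cfsg.Agent.Lib.BenderSuzuki.TwoGroup

open MulAction Cfsg.Agent.Lib.RankOne.Basic Cfsg.Agent.Lib.RankOne.Involution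
open Cfsg.Agent.Lib.Characters.Basic Cfsg.Agent.Lib.BrauerMap
open scoped ComplexConjugate

universe w z

variable {G : Type w} {Ω : Type z} [Group G] [MulAction G Ω] [Fintype G] {a : Ω} {t : G}
  {Q : Subgroup G}

/-- The average over the singular elements of the point stabiliser. -/
noncomputable def avgSing (a : Ω) (χ : G → ℂ) : ℂ :=
  (Nat.card (stabilizer G a) : ℂ)⁻¹ * ∑ y ∈ (sing G a).toFinite.toFinset, χ y

/-- The proportion of singular elements in the point stabiliser. -/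
noncomputable def propSing (G : Type w) [Group G] [MulAction G Ω] (a : Ω) : ℝ :=
  (Nat.card (sing G a) : ℝ) / (Nat.card (stabilizer G a) : ℝ)

theorem card_sing_finset (a : Ω) :
    (sing G a).toFinite.toFinset.card = Nat.card (sing G a) := by
  rw [Nat.card_coe_set_eq, Set.ncard_eq_toFinset_card _ (sing G a).toFinite]

theorem avgSing_one (a : Ω) : avgSing a (oneChar G : G → ℂ) = (propSing G a : ℂ) := by
  rw [avgSing, propSing]
  simp only [oneChar_apply, Finset.sum_const, nsmul_eq_mul, mul_one, card_sing_finset]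
  push_cast
  ring

theorem inv_mem_sing {y : G} (hy : y ∈ sing G a) : y⁻¹ ∈ sing G a :=
  ⟨(stabilizer G a).inv_mem hy.1, by rw [orderOf_inv]; exact hy.2⟩

variable (h : Hyp G Ω a t Q)

include h

theorem sum_normSq_avgSing [Fintype (Cfsg.IrrCharacter G)] :
    ∑ χ : Cfsg.IrrCharacter G, Complex.normSq (avgSing a (χ : G → ℂ)) = propSing G a := by
  classical
  set X := (sing G a).toFinite.toFinset with hX
  have hmem : ∀ y, y ∈ X ↔ y ∈ sing G a := fun y => Set.Finite.mem_toFinset _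
  have hga : (Nat.card (stabilizer G a) : ℂ) ≠ 0 := Nat.cast_ne_zero.2 Nat.card_pos.ne'
  have key : ∀ y ∈ X, ∑ y' ∈ X, Nat.card {v : G // y = v * y' * v⁻¹} =
      Nat.card (stabilizer G a) := by
    intro y hy
    rw [← Finset.sum_coe_sort X, ← Nat.card_sigma]
    refine Nat.card_eq_of_bijective (fun p => (⟨p.2.1, mem_stabilizer_iff.2
      (sing_conj h ((hmem _).1 p.1.2).2 ((hmem _).1 p.1.2).1 ?_)⟩ : stabilizer G a)) ⟨?_, ?_⟩
    · rw [← p.2.2]; exact ((hmem y).1 hy).1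
    · rintro ⟨⟨y₁, hy₁⟩, v, hv₁⟩ ⟨⟨y₂, hy₂⟩, v', hv₂⟩ e
      obtain rfl : v = v' := congrArg Subtype.val e
      obtain rfl : y₁ = y₂ := mul_left_cancel (mul_right_cancel (hv₁.symm.trans hv₂))
      rfl
    · rintro ⟨v, hv⟩
      refine ⟨⟨⟨v⁻¹ * y * v, (hmem _).2 ⟨?_, ?_⟩⟩, v, by group⟩, rfl⟩
      · exact (stabilizer G a).mul_mem ((stabilizer G a).mul_mem ((stabilizer G a).inv_mem hv)
          ((hmem y).1 hy).1) hv
      · have := MulEquiv.orderOf_eq (MulAut.conj v⁻¹) y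
        rw [MulAut.conj_apply, inv_inv] at this
        rw [this]
        exact ((hmem y).1 hy).2
  apply Complex.ofReal_injective
  rw [Complex.ofReal_sum, propSing, Complex.ofReal_div, Complex.ofReal_natCast,
    Complex.ofReal_natCast]
  calc ∑ χ : Cfsg.IrrCharacter G, ((Complex.normSq (avgSing a (χ : G → ℂ)) : ℝ) : ℂ)
      = (Nat.card (stabilizer G a) : ℂ)⁻¹ * (Nat.card (stabilizer G a) : ℂ)⁻¹ *
          ∑ y ∈ X, ∑ y' ∈ X, ∑ χ : Cfsg.IrrCharacter G, (χ : G → ℂ) y * (χ : G → ℂ) y'⁻¹ := by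
        rw [Finset.sum_congr rfl fun y _ => Finset.sum_comm, Finset.sum_comm, Finset.mul_sum]
        refine Finset.sum_congr rfl fun χ _ => ?_
        rw [← Complex.mul_conj, avgSing, map_mul, map_inv₀, map_natCast, map_sum, ← hX,
          mul_mul_mul_comm, Finset.sum_mul_sum]
        simp only [apply_inv (isCharacter_irr χ)]
    _ = (Nat.card (stabilizer G a) : ℂ)⁻¹ * (Nat.card (stabilizer G a) : ℂ)⁻¹ *
          ((X.card * Nat.card (stabilizer G a) : ℕ) : ℂ) := by
        congr 1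
        rw [Finset.sum_congr rfl (g := fun _ => ((Nat.card (stabilizer G a) : ℕ) : ℂ)) fun y hy => ?_,
          Finset.sum_const, nsmul_eq_mul, Nat.cast_mul]
        rw [← key y hy, Nat.cast_sum]
        refine Finset.sum_congr rfl fun y' _ => ?_
        rw [PrincipalSection.sum_irr_mul_inv, Finset.sum_boole, Nat.card_eq_fintype_card,
          Fintype.card_subtype]
    _ = _ := by
        rw [hX, card_sing_finset, Nat.cast_mul]
        field_simp

theorem avgSing_eq_zero {M : Ideal Cfsg.AlgInt} (hMod : Cfsg.IsPModular 2 M)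
    {χ : Cfsg.IrrCharacter G} (hχ : χ ∉ Cfsg.principalBlock M G) :
    avgSing a (χ : G → ℂ) = 0 := by
  classical
  haveI : Fact (Nat.Prime 2) := ⟨Nat.prime_two⟩
  set X := (sing G a).toFinite.toFinset with hX
  have hmem : ∀ y, y ∈ X ↔ y ∈ sing G a := fun y => Set.Finite.mem_toFinset _
  have hpart : ∀ y : G, ∃ x, Cfsg.IsPPart 2 y x := Blocks.exists_isPPart Nat.prime_two
  choose zp hzp using hpart
  let K : G → Subgroup G := fun x => (secCore 2 x).map (Subgroup.centralizer ({x} : Set G)).subtype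
  have hz : ∀ y ∈ sing G a, zp y • a = a ∧ 2 ∣ orderOf (zp y) := by
    intro y hy
    refine ⟨mem_stabilizer_iff.1 ((Subgroup.zpowers_le.2 (mem_stabilizer_iff.2 hy.1))
      (PrincipalSection.isPPart_mem_zpowers Nat.prime_two (hzp y))), ?_⟩
    have hne := Blocks.isPPart_ne_one (hzp y) hy.2
    obtain ⟨-, -, -, ⟨k, hk⟩, -⟩ := hzp y
    rw [hk]
    refine dvd_pow_self 2 fun hk0 => hne ?_
    rw [hk0, pow_zero] at hk
    exact orderOf_eq_one_iff.1 hk
  have hcen : ∀ y : G, y ∈ Subgroup.centralizer ({zp y} : Set G) := by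
    intro y
    obtain ⟨y', hy', hc, -, -⟩ := hzp y
    have h1 : Commute (zp y) (zp y * y') := (Commute.refl _).mul_right hc
    rw [hy'] at h1
    exact Subgroup.mem_centralizer_singleton_iff.2 h1.eq.symm
  have hshift : ∀ y ∈ X, ∀ u ∈ K (zp y), y * u ∈ X ∧ zp (y * u) = zp y := by
    rintro y hy _ ⟨u, hu, rfl⟩
    have hy' := (hmem y).1 hy
    have hpp : Cfsg.IsPPart 2 (y * u) (zp y) :=
      isPPart_mul_core (g := ⟨y, hcen y⟩) (hzp y) hu
    refine ⟨(hmem _).2 ⟨?_, (hz y hy').2.trans (orderOf_dvd_of_mem_zpowers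
      (PrincipalSection.isPPart_mem_zpowers Nat.prime_two hpp))⟩,
      PrincipalSection.isPPart_unique Nat.prime_two (hzp _) hpp⟩
    exact (stabilizer G a).mul_mem hy'.1
      (centralizer_le_stab h (hz y hy').2 (hz y hy').1 u.2)
  let Kf : G → Finset G := fun x => (Finset.univ.filter fun u => u ∈ K x)
  have hKf : ∀ x u, u ∈ Kf x ↔ u ∈ K x := fun x u => by simp [Kf]
  have hzero : ∀ y ∈ X, ∑ u ∈ Kf (zp y), (χ : G → ℂ) (y * u) = 0 := by
    intro y hy
    have hy' := hz y ((hmem y).1 hy)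
    haveI := Fintype.ofFinite (secCore 2 (zp y))
    rw [← sum_core_eq_zero (g := ⟨y, hcen y⟩) hMod (pSolvable_centralizer h hy'.2 hy'.1) (hzp y) hχ]
    refine (Finset.sum_bij (fun (u : secCore 2 (zp y)) _ => ((u : Subgroup.centralizer ({zp y} : Set G)) : G))
      (fun u _ => (hKf _ _).2 ⟨_, u.2, rfl⟩)
      (fun u _ u' _ e => Subtype.ext (Subtype.ext e)) (fun u hu => ?_) (fun u _ => rfl)).symm
    obtain ⟨u', hu', rfl⟩ := (hKf _ _).1 hu
    exact ⟨⟨u', hu'⟩, Finset.mem_univ _, rfl⟩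
  have hcard : ∀ x, ((Kf x).card : ℂ) ≠ 0 := fun x =>
    Nat.cast_ne_zero.2 (Finset.card_ne_zero.2 ⟨1, (hKf x 1).2 (one_mem _)⟩)
  have hsum : ∑ y ∈ X, (χ : G → ℂ) y = 0 := by
    calc ∑ y ∈ X, (χ : G → ℂ) y
        = ∑ y ∈ X, ∑ u ∈ Kf (zp y), ((Kf (zp y)).card : ℂ)⁻¹ * (χ : G → ℂ) y := by
          refine Finset.sum_congr rfl fun y _ => ?_
          rw [Finset.sum_const, nsmul_eq_mul, ← mul_assoc, mul_inv_cancel₀ (hcard _), one_mul]
      _ = ∑ y ∈ X, ∑ u ∈ Kf (zp y), ((Kf (zp y)).card : ℂ)⁻¹ * (χ : G → ℂ) (y * u) := by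
          rw [Finset.sum_sigma', Finset.sum_sigma']
          refine Finset.sum_nbij' (fun p => ⟨p.1 * p.2, p.2⁻¹⟩) (fun p => ⟨p.1 * p.2, p.2⁻¹⟩)
            ?_ ?_ ?_ ?_ ?_
          · rintro ⟨y, u⟩ hp
            obtain ⟨hy, hu⟩ := Finset.mem_sigma.1 hp
            obtain ⟨h1, h2⟩ := hshift y hy u ((hKf _ _).1 hu)
            exact Finset.mem_sigma.2 ⟨h1, (hKf _ _).2 (h2.symm ▸ inv_mem ((hKf _ _).1 hu))⟩
          · rintro ⟨y, u⟩ hp
            obtain ⟨hy, hu⟩ := Finset.mem_sigma.1 hp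
            obtain ⟨h1, h2⟩ := hshift y hy u ((hKf _ _).1 hu)
            exact Finset.mem_sigma.2 ⟨h1, (hKf _ _).2 (h2.symm ▸ inv_mem ((hKf _ _).1 hu))⟩
          · rintro ⟨y, u⟩ -
            simp
          · rintro ⟨y, u⟩ -
            simp
          · rintro ⟨y, u⟩ hp
            obtain ⟨hy, hu⟩ := Finset.mem_sigma.1 hp
            simp only [(hshift y hy u ((hKf _ _).1 hu)).2, mul_inv_cancel_right]
      _ = 0 := Finset.sum_eq_zero fun y hy => by rw [← Finset.mul_sum, hzero y hy, mul_zero]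
  rw [avgSing, ← hX, hsum, mul_zero]

theorem card_pairs {s : G} (hs : s ∈ invs G a)
    (hbase : ∀ d ∈ twoStab G a t, (d ∈ vGrp a t ↔ d * s = s * d)) :
    Nat.card {p : G × G // p.1 * s * p.1⁻¹ * (p.2 * s * p.2⁻¹) ∈ sing G a} =
      ((qNum G a - 1) * (qNum G a - 2)) * (Nat.card Q * Nat.card (vGrp a t)) ^ 2 := by
  classical
  haveI := Fintype.ofFinite (invs G a)
  have hr : ∀ i : invs G a, ∃ r : G, r * s * r⁻¹ = i := fun i =>
    all_conj h.setup hs.2.1 hs.2.2 i.2.2.1 i.2.2.2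
  choose r hr using hr
  set C := Subgroup.centralizer ({s} : Set G)
  have hC : Nat.card C = Nat.card Q * Nat.card (vGrp a t) := card_centralizer_base h hs hbase
  have hcs : ∀ c : C, (c : G) * s * (c : G)⁻¹ = s := fun c =>
    mul_inv_eq_iff_eq_mul.2 (Subgroup.mem_centralizer_singleton_iff.1 c.2)
  have hpairs : Nat.card {p : invs G a × invs G a // p.1 ≠ p.2} =
      (qNum G a - 1) * (qNum G a - 2) := by
    rw [Nat.card_eq_fintype_card, Fintype.card_subtype,
      show (Finset.univ.filter fun p : invs G a × invs G a => p.1 ≠ p.2) =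
        (Finset.univ : Finset (invs G a)).offDiag by ext; simp [Finset.mem_offDiag],
      Finset.offDiag_card, Finset.card_univ, qNum, Nat.card_eq_fintype_card]
    rw [Nat.add_sub_cancel, show Fintype.card (invs G a) + 1 - 2 = Fintype.card (invs G a) - 1 by omega,
      Nat.mul_sub_one]
  rw [sq, ← hC, ← hpairs, ← Nat.card_prod, ← Nat.card_prod]
  symm
  refine Nat.card_eq_of_bijective (fun x => ⟨(r x.1.1.1 * x.2.1, r x.1.1.2 * x.2.2), ?_⟩) ⟨?_, ?_⟩
  · obtain ⟨⟨⟨i, j⟩, hij⟩, c, c'⟩ := x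
    show r i * c * s * (r i * c)⁻¹ * (r j * c' * s * (r j * c')⁻¹) ∈ sing G a
    rw [show r i * c * s * (r i * (c : G))⁻¹ = r i * ((c : G) * s * (c : G)⁻¹) * (r i)⁻¹ by group,
      show r j * c' * s * (r j * (c' : G))⁻¹ = r j * ((c' : G) * s * (c' : G)⁻¹) * (r j)⁻¹ by group,
      hcs, hcs, hr, hr]
    refine ⟨(stabilizer G a).mul_mem i.2.1 j.2.1, ?_⟩
    rw [orderOf_eq_prime (p := 2) ?_ ?_]
    · have hc := Cfsg.Agent.Lib.RankOne.Nilpotent.involutions_commute h.setup h.twoRank i.2 j.2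
      rw [pow_two, show (i : G) * j * (i * j) = (i : G) * ((j : G) * i) * j by group, ← hc,
        show (i : G) * ((i : G) * j) * j = ((i : G) * i) * ((j : G) * j) by group, i.2.2.2, j.2.2.2,
        one_mul]
    · intro e
      refine hij (Subtype.ext ?_)
      rw [← inv_eq_self_of_sq j.2.2.2]
      exact eq_inv_of_mul_eq_one_left e
  · rintro ⟨⟨⟨i, j⟩, hij⟩, c, c'⟩ ⟨⟨⟨i', j'⟩, hij'⟩, d, d'⟩ e
    obtain ⟨e1, e2⟩ := Prod.mk.injEq _ _ _ _ |>.mp (congrArg Subtype.val e :)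
    have key : ∀ (i i' : invs G a) (c d : C), r i * (c : G) = r i' * d → i = i' := by
      intro i i' c d e1
      apply Subtype.ext
      rw [← hr i, ← hr i']
      calc r i * s * (r i)⁻¹ = r i * (c : G) * s * (r i * (c : G))⁻¹ := by
            rw [show r i * (c : G) * s * (r i * (c : G))⁻¹ = r i * ((c : G) * s * (c : G)⁻¹) * (r i)⁻¹ by
              group, hcs]
        _ = r i' * (d : G) * s * (r i' * (d : G))⁻¹ := by rw [e1]
        _ = r i' * ((d : G) * s * (d : G)⁻¹) * (r i')⁻¹ := by group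
        _ = _ := by rw [hcs]
    obtain rfl := key i i' c d e1
    obtain rfl := key j j' c' d' e2
    obtain rfl : c = d := Subtype.ext (mul_left_cancel e1)
    obtain rfl : c' = d' := Subtype.ext (mul_left_cancel e2)
    rfl
  · rintro ⟨⟨g, k⟩, hgk⟩
    set i := g * s * g⁻¹ with hi
    set j := k * s * k⁻¹ with hj
    change i * j ∈ sing G a at hgk
    have hii : i * i = 1 := by
      rw [hi, show g * s * g⁻¹ * (g * s * g⁻¹) = g * (s * s) * g⁻¹ by group, hs.2.2, mul_one,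
        mul_inv_cancel]
    have hjj : j * j = 1 := by
      rw [hj, show k * s * k⁻¹ * (k * s * k⁻¹) = k * (s * s) * k⁻¹ by group, hs.2.2, mul_one,
        mul_inv_cancel]
    have hia : i • a = a := by
      refine sing_conj h hgk.2 hgk.1 ?_
      rw [show i * (i * j) * i⁻¹ = (i * i) * (j * i⁻¹) by group, hii, one_mul,
        inv_eq_self_of_sq hii, show j * i = (i * j)⁻¹ by
          rw [mul_inv_rev, inv_eq_self_of_sq hii, inv_eq_self_of_sq hjj]]
      exact inv_smul_eq_iff.2 hgk.1.symm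
    have hja : j • a = a := by
      have h1 := hgk.1
      rwa [mul_smul, ← inv_eq_self_of_sq hii, inv_smul_eq_iff, hia] at h1
    have hiI : i ∈ invs G a := ⟨hia, fun e => hs.2.1 (by simpa [hi] using e), hii⟩
    have hjI : j ∈ invs G a := ⟨hja, fun e => hs.2.1 (by simpa [hj] using e), hjj⟩
    have hij : (⟨i, hiI⟩ : invs G a) ≠ ⟨j, hjI⟩ := fun e => by
      have e' : i = j := congrArg Subtype.val e
      rw [← e', hii] at hgk
      have := hgk.2
      rw [orderOf_one] at this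
      norm_num at this
    have hcmem : ∀ (x : G) (i₀ : invs G a), x * s * x⁻¹ = i₀ → (r i₀)⁻¹ * x ∈ C := by
      intro x i₀ hx
      refine Subgroup.mem_centralizer_singleton_iff.2 ?_
      calc (r i₀)⁻¹ * x * s = (r i₀)⁻¹ * (x * s * x⁻¹) * x := by group
        _ = (r i₀)⁻¹ * (r i₀ * s * (r i₀)⁻¹) * x := by rw [hx, hr]
        _ = _ := by group
    exact ⟨(⟨(⟨i, hiI⟩, ⟨j, hjI⟩), hij⟩, ⟨_, hcmem g ⟨i, hiI⟩ rfl⟩, ⟨_, hcmem k ⟨j, hjI⟩ rfl⟩),
      Subtype.ext (Prod.ext (mul_inv_cancel_left _ _) (mul_inv_cancel_left _ _))⟩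

theorem sum_avgSing [Fintype (Cfsg.IrrCharacter G)] {s : G} (hs : s ∈ invs G a)
    (hbase : ∀ d ∈ twoStab G a t, (d ∈ vGrp a t ↔ d * s = s * d)) :
    ∑ χ : Cfsg.IrrCharacter G, avgSing a (χ : G → ℂ) * ((χ : G → ℂ) s) ^ 2 / (χ : G → ℂ) 1 =
      (((qNum G a - 1) * (qNum G a - 2) * (Nat.card Q * Nat.card (vGrp a t)) ^ 2 : ℕ) : ℂ) /
        ((Nat.card G : ℂ) * Nat.card (stabilizer G a)) := by
  classical
  set X := (sing G a).toFinite.toFinset with hX
  have hmem : ∀ y, y ∈ X ↔ y ∈ sing G a := fun y => Set.Finite.mem_toFinset _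
  have hG : (Nat.card G : ℂ) ≠ 0 := Nat.cast_ne_zero.2 Nat.card_pos.ne'
  have hga : (Nat.card (stabilizer G a) : ℂ) ≠ 0 := Nat.cast_ne_zero.2 Nat.card_pos.ne'
  have hreg : ∀ w : G, ∑ χ : Cfsg.IrrCharacter G, (χ : G → ℂ) w * (χ : G → ℂ) 1 =
      if w = 1 then (Nat.card G : ℂ) else 0 := by
    intro w
    have := PrincipalSection.sum_irr_mul_inv w 1
    simp only [inv_one, mul_one, mul_inv_cancel] at this
    rw [this]
    by_cases hw : w = 1 <;> simp [hw, Nat.card_eq_fintype_card]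
  have hinner : ∀ (χ : Cfsg.IrrCharacter G) (y : G),
      ∑ g : G, ∑ k : G, (χ : G → ℂ) (g * s * g⁻¹ * (k * s * k⁻¹) * y⁻¹) =
        (Nat.card G : ℂ) ^ 2 * (χ : G → ℂ) s ^ 2 * (χ : G → ℂ) y⁻¹ / (χ : G → ℂ) 1 ^ 2 := by
    intro χ y
    have hrot : ∀ A B : G, (χ : G → ℂ) (A * B) = (χ : G → ℂ) (B * A) := fun A B => by
      rw [← isClassFunction_irr χ (A * B) A⁻¹]
      congr 1
      group
    rw [Finset.sum_comm, Finset.sum_congr rfl (g := fun k => (Nat.card G : ℂ) *
      (χ : G → ℂ) (k * s * k⁻¹ * y⁻¹) * (χ : G → ℂ) s / (χ : G → ℂ) 1) fun k _ => by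
      rw [← H80.ClassMult.sum_apply_mul_conj χ (k * s * k⁻¹ * y⁻¹) s]
      exact Finset.sum_congr rfl fun g _ => by rw [mul_assoc (g * s * g⁻¹), hrot]]
    rw [← Finset.sum_div, ← Finset.sum_mul, ← Finset.mul_sum,
      Finset.sum_congr rfl fun k _ => hrot _ _, H80.ClassMult.sum_apply_mul_conj]
    field_simp
  have hcount : (Nat.card {p : G × G // p.1 * s * p.1⁻¹ * (p.2 * s * p.2⁻¹) ∈ sing G a} : ℂ) *
      Nat.card G = ∑ χ : Cfsg.IrrCharacter G, (χ : G → ℂ) 1 *
        ∑ y ∈ X, ∑ g : G, ∑ k : G, (χ : G → ℂ) (g * s * g⁻¹ * (k * s * k⁻¹) * y⁻¹) := by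
    simp only [Finset.mul_sum]
    rw [Finset.sum_comm]
    simp only [Finset.sum_comm (s := (Finset.univ : Finset (Cfsg.IrrCharacter G)))]
    simp only [mul_comm ((_ : G → ℂ) 1), hreg, mul_inv_eq_one]
    rw [Nat.card_eq_fintype_card (α := {p : G × G // _}), Fintype.card_subtype,
      ← Finset.sum_boole, Finset.sum_mul, Finset.sum_comm (s := X), Fintype.sum_prod_type]
    refine Finset.sum_congr rfl fun g _ => ?_
    rw [Finset.sum_comm]
    refine Finset.sum_congr rfl fun k _ => ?_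
    rw [Finset.sum_ite_eq]
    simp only [hmem, ite_mul, one_mul, zero_mul]
  have hrev : ∀ χ : Cfsg.IrrCharacter G, ∑ y ∈ X, (χ : G → ℂ) y⁻¹ = ∑ y ∈ X, (χ : G → ℂ) y :=
    fun χ => Finset.sum_nbij' (·⁻¹) (·⁻¹) (fun y hy => (hmem _).2 (inv_mem_sing ((hmem y).1 hy)))
      (fun y hy => (hmem _).2 (inv_mem_sing ((hmem y).1 hy))) (fun y _ => inv_inv y)
      (fun y _ => inv_inv y) (fun y _ => rfl)
  rw [eq_div_iff (mul_ne_zero hG hga), ← card_pairs h hs hbase, Finset.sum_mul]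
  refine mul_right_cancel₀ hG ?_
  rw [hcount, Finset.sum_mul]
  refine Finset.sum_congr rfl fun χ _ => ?_
  have h1 := apply_one_ne_zero χ
  simp only [hinner]
  rw [← Finset.sum_div, ← Finset.mul_sum, hrev, avgSing, ← hX]
  field_simp

theorem sum_block_normSq {S T : Subgroup G} (hst : Split Q S T) {M : Ideal Cfsg.AlgInt}
    (hMod : Cfsg.IsPModular 2 M) {s : G} (hs : s ∈ invs G a)
    (hbase : ∀ d ∈ twoStab G a t, (d ∈ vGrp a t ↔ d * s = s * d)) :
    ∑ χ ∈ (Cfsg.principalBlock M G).toFinite.toFinset, Complex.normSq ((χ : G → ℂ) s) ≤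
      (Nat.card S : ℝ) * Nat.card (vGrp a t) := by
  classical
  haveI : Fact (Nat.Prime 2) := ⟨Nat.prime_two⟩
  have hsS := invs_mem_S h hst hs
  have hsolv := pSolvable_centralizer h (by rw [orderOf_invs h hs]) hs.1
  have hpp : Cfsg.IsPPart 2 s s :=
    Blocks.isPPart_self Nat.prime_two ⟨1, by rw [orderOf_invs h hs, pow_one]⟩
  set g : Subgroup.centralizer ({s} : Set G) := ⟨s, Subgroup.mem_centralizer_singleton_iff.2 rfl⟩
  have hsum := sum_block_section hMod hsolv g g hpp hpp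
  rw [finsum_mem_eq_finite_toFinset_sum _ (Cfsg.principalBlock M G).toFinite] at hsum
  simp only [Complex.mul_conj, ← Complex.ofReal_sum] at hsum
  have hcount : secCount 2 s g g = Nat.card Q * Nat.card (vGrp a t) := by
    rw [← card_centralizer_base h hs hbase, secCount]
    refine Nat.card_congr (Equiv.subtypeUnivEquiv fun v => ?_)
    have hv : v * g * v⁻¹ = g :=
      Subtype.ext (mul_inv_eq_iff_eq_mul.2 (Subgroup.mem_centralizer_singleton_iff.1 v.2))
    rw [hv, inv_mul_cancel]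
    exact one_mem _
  have hTK : Nat.card T ≤ Nat.card (secCore 2 s) :=
    Nat.card_le_card_of_injective
      (fun y => ⟨⟨y, (T_mem_secCore h hst hsS hs.2.1 y.2).1⟩, (T_mem_secCore h hst hsS hs.2.1 y.2).2⟩)
      fun y y' e => Subtype.ext (congrArg (fun x : secCore 2 s => ((x : Subgroup.centralizer ({s} : Set G)) : G)) e)
  have hreal : (∑ χ ∈ (Cfsg.principalBlock M G).toFinite.toFinset, Complex.normSq ((χ : G → ℂ) s)) =
      ((Nat.card Q * Nat.card (vGrp a t) : ℕ) : ℝ) / (Nat.card (secCore 2 s) : ℝ) := by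
    apply Complex.ofReal_injective
    rw [hsum, hcount]
    simp
  rw [hreal, div_le_iff₀ (Nat.cast_pos.2 Nat.card_pos), hst.card, Nat.cast_mul, Nat.cast_mul]
  calc (Nat.card S : ℝ) * Nat.card T * Nat.card (vGrp a t)
      = (Nat.card S : ℝ) * Nat.card (vGrp a t) * Nat.card T := by ring
    _ ≤ _ := mul_le_mul_of_nonneg_left (Nat.cast_le.2 hTK) (by positivity)

theorem conj_apply_invol {s : G} (hs : s ∈ invs G a) (χ : Cfsg.IrrCharacter G) :
    conj ((χ : G → ℂ) s) = (χ : G → ℂ) s := by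
  rw [← apply_inv (isCharacter_irr χ), inv_eq_self_of_sq hs.2.2]

end Cfsg.Agent.Lib.BenderSuzuki.TwoGroup
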